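import Cfsg.Agent.Cl.GL2Sylow

/-! The projective line: triple transitivity of `PGL_2` and of `SL_2` in characteristic two. -/

set_option autoImplicit false

namespace Cfsg.Agent.Cl

open Matrix Projectivization
open scoped MatrixGroups LinearAlgebra.Projectivization

variable {F : Type*} [Field F]

theorem projLine_mk_eq_iff {v w : Fin 2 → F} (hv : v ≠ 0) (hw : w ≠ 0) :
    Projectivization.mk F v hv = Projectivization.mk F w hw ↔ v 0 * w 1 - v 1 * w 0 = 0 := by
  rw [mk_eq_mk_iff']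
  constructor
  · rintro ⟨a, rfl⟩
    simp; ring
  · intro h
    by_cases h0 : w 0 = 0
    · have h1 : w 1 ≠ 0 := by
        intro h1; apply hw; ext i; fin_cases i <;> simp [h0, h1]
      refine ⟨v 1 / w 1, ?_⟩
      ext i; fin_cases i
      · simp only [Fin.zero_eta, Pi.smul_apply, smul_eq_mul]
        field_simp
        linear_combination -h
      · simp only [Fin.mk_one, Pi.smul_apply, smul_eq_mul]
        field_simp
    · refine ⟨v 0 / w 0, ?_⟩
      ext i; fin_cases i
      · simp only [Fin.zero_eta, Pi.smul_apply, smul_eq_mul]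
        field_simp
      · simp only [Fin.mk_one, Pi.smul_apply, smul_eq_mul]
        field_simp
        linear_combination h

theorem gl2_smul_apply (g : GL (Fin 2) F) (v : Fin 2 → F) (i : Fin 2) :
    (g • v) i = g.1 i 0 * v 0 + g.1 i 1 * v 1 := by
  simp [Units.smul_def, Matrix.mulVec, dotProduct, Fin.sum_univ_two]

theorem sl2_smul_apply (g : SL(2, F)) (v : Fin 2 → F) (i : Fin 2) :
    (g • v) i = g.1 i 0 * v 0 + g.1 i 1 * v 1 := by
  simp [Matrix.SpecialLinearGroup.smul_def, Matrix.mulVec, dotProduct, Fin.sum_univ_two]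

theorem vec2_ne_zero_left {a : F} (ha : a ≠ 0) (b : F) : (![a, b] : Fin 2 → F) ≠ 0 :=
  fun h => ha (congrFun h 0)

theorem vec2_ne_zero_right (a : F) {b : F} (hb : b ≠ 0) : (![a, b] : Fin 2 → F) ≠ 0 :=
  fun h => hb (congrFun h 1)

/-- The point `[1 : t]` of the projective line. -/
def ptL (t : F) : ℙ F (Fin 2 → F) := Projectivization.mk F ![1, t] (vec2_ne_zero_left one_ne_zero _)

/-- The point `[t : 1]` of the projective line. -/
def ptR (t : F) : ℙ F (Fin 2 → F) := Projectivization.mk F ![t, 1] (vec2_ne_zero_right _ one_ne_zero)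

theorem exists_gl2_std_triple (a b c : ℙ F (Fin 2 → F)) (hab : a ≠ b) (hac : a ≠ c) (hbc : b ≠ c) :
    ∃ g : GL (Fin 2) F, g • ptL 0 = a ∧ g • ptR 0 = b ∧ g • ptL 1 = c := by
  induction a using Projectivization.ind with | _ u hu => ?_
  induction b using Projectivization.ind with | _ v hv => ?_
  induction c using Projectivization.ind with | _ w hw => ?_
  rw [Ne, projLine_mk_eq_iff] at hab hac hbc
  refine ⟨gl2mk ((w 0 * v 1 - w 1 * v 0) * u 0) ((u 0 * w 1 - u 1 * w 0) * v 0)
    ((w 0 * v 1 - w 1 * v 0) * u 1) ((u 0 * w 1 - u 1 * w 0) * v 1) ?_, ?_, ?_, ?_⟩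
  · intro h
    have : (v 0 * w 1 - v 1 * w 0) * (u 0 * w 1 - u 1 * w 0) * (u 0 * v 1 - u 1 * v 0) = 0 := by
      linear_combination -h
    simp [hab, hac, hbc] at this
  all_goals
    simp only [ptL, ptR, smul_mk, projLine_mk_eq_iff, gl2_smul_apply, gl2mk00, gl2mk01, gl2mk10,
      gl2mk11]
    simp
    ring

theorem gl2_fix_std_triple {g : GL (Fin 2) F} (h0 : g • ptL (0 : F) = ptL 0)
    (h1 : g • ptR (0 : F) = ptR 0) (h2 : g • ptL (1 : F) = ptL 1) :
    g ∈ Subgroup.center (GL (Fin 2) F) := by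
  simp only [ptL, ptR, smul_mk, projLine_mk_eq_iff, gl2_smul_apply] at h0 h1 h2
  simp at h0 h1 h2
  rw [Subgroup.mem_center_iff]
  intro h
  rw [h0, h1] at h2
  have : g.1 0 0 = g.1 1 1 := by linear_combination h2
  apply gl2_ext <;> simp only [gl2_mul, h0, h1, this] <;> ring

theorem isMultiplyPretransitive_three_of {G X : Type*} [Group G] [MulAction G X] (x y z : X)
    (h : ∀ a b c : X, a ≠ b → a ≠ c → b ≠ c → ∃ g : G, g • x = a ∧ g • y = b ∧ g • z = c) :
    MulAction.IsMultiplyPretransitive G X 3 := by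
  rw [MulAction.isMultiplyPretransitive_iff]
  intro e f
  obtain ⟨g, g0, g1, g2⟩ := h (e 0) (e 1) (e 2) (by simp) (by simp) (by simp)
  obtain ⟨k, k0, k1, k2⟩ := h (f 0) (f 1) (f 2) (by simp) (by simp) (by simp)
  refine ⟨k * g⁻¹, ?_⟩
  ext i
  fin_cases i
  · simp [← g0, ← k0, mul_smul]
  · simp [← g1, ← k1, mul_smul]
  · simp [← g2, ← k2, mul_smul]

theorem pgl2_mk_smul (g : GL (Fin 2) F) (x : ℙ F (Fin 2 → F)) :
    (ProjGenLinGroup.mk g) • x = g • x := rfl

theorem pgl2_three_transitive :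
    MulAction.IsMultiplyPretransitive (ProjGenLinGroup (Fin 2) F) (ℙ F (Fin 2 → F)) 3 := by
  refine isMultiplyPretransitive_three_of (ptL 0) (ptR 0) (ptL 1) fun a b c hab hac hbc => ?_
  obtain ⟨g, hg⟩ := exists_gl2_std_triple a b c hab hac hbc
  exact ⟨ProjGenLinGroup.mk g, hg⟩

theorem gl2_fix_triple {g : GL (Fin 2) F} {a b c : ℙ F (Fin 2 → F)} (hab : a ≠ b) (hac : a ≠ c)
    (hbc : b ≠ c) (ha : g • a = a) (hb : g • b = b) (hc : g • c = c) :
    g ∈ Subgroup.center (GL (Fin 2) F) := by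
  obtain ⟨h, rfl, rfl, rfl⟩ := exists_gl2_std_triple a b c hab hac hbc
  have := gl2_fix_std_triple (g := h⁻¹ * g * h) (by simp only [mul_smul, ha, inv_smul_smul])
    (by simp only [mul_smul, hb, inv_smul_smul]) (by simp only [mul_smul, hc, inv_smul_smul])
  have h2 := Subgroup.Normal.conj_mem inferInstance _ this h
  simpa [mul_assoc] using h2

theorem pgl2_fix_triple (g : ProjGenLinGroup (Fin 2) F) (a b c : ℙ F (Fin 2 → F)) (hab : a ≠ b)
    (hac : a ≠ c) (hbc : b ≠ c) (ha : g • a = a) (hb : g • b = b) (hc : g • c = c) : g = 1 := by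
  induction g using ProjGenLinGroup.induction_on with | mk g => ?_
  exact ProjGenLinGroup.mk_eq_one.2 (gl2_fix_triple hab hac hbc ha hb hc)

theorem sl2_three_transitive_iff [Fintype F] :
    MulAction.IsMultiplyPretransitive SL(2, F) (ℙ F (Fin 2 → F)) 3 ↔ ringChar F = 2 := by
  constructor
  · intro h
    by_contra h2
    obtain ⟨t, ht⟩ := FiniteField.exists_nonsquare h2
    have ht0 : t ≠ 0 := by rintro rfl; exact ht IsSquare.zero
    rw [MulAction.isMultiplyPretransitive_iff] at h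
    have hinj : ∀ s : F, s ≠ 0 → Function.Injective ![ptL (0 : F), ptR 0, ptL s] := by
      intro s hs i j hij
      fin_cases i <;> fin_cases j <;> simp_all [ptL, ptR, projLine_mk_eq_iff]
    obtain ⟨g, hg⟩ := h ⟨_, hinj 1 one_ne_zero⟩ ⟨_, hinj t ht0⟩
    have h0 := congrArg (fun e : Fin 3 ↪ ℙ F (Fin 2 → F) => e 0) hg
    have h1 := congrArg (fun e : Fin 3 ↪ ℙ F (Fin 2 → F) => e 1) hg
    have h2 := congrArg (fun e : Fin 3 ↪ ℙ F (Fin 2 → F) => e 2) hg
    simp [ptL, ptR, projLine_mk_eq_iff, sl2_smul_apply] at h0 h1 h2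
    have hd := sl2_det g
    rw [h0, h1] at h2 hd
    exact ht ⟨g.1 1 1, by linear_combination (g.1 1 1) * h2 - t * hd⟩
  · intro h2
    refine isMultiplyPretransitive_three_of (ptL 0) (ptR 0) (ptL 1) fun a b c hab hac hbc => ?_
    obtain ⟨g, hg⟩ := exists_gl2_std_triple a b c hab hac hbc
    obtain ⟨s, hs⟩ := FiniteField.isSquare_of_char_two h2
      (g.1 0 0 * g.1 1 1 - g.1 0 1 * g.1 1 0)
    have hs0 : s ≠ 0 := by
      rintro rfl
      exact gl2_det g (by simpa using hs)
    let k : SL(2, F) := sl2mk (g.1 0 0 / s) (g.1 0 1 / s) (g.1 1 0 / s) (g.1 1 1 / s) (by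
      field_simp; linear_combination hs)
    have : ∀ x : ℙ F (Fin 2 → F), k • x = g • x := by
      intro x
      induction x using Projectivization.ind with | _ u hu => ?_
      simp only [smul_mk, projLine_mk_eq_iff, gl2_smul_apply, sl2_smul_apply, k, sl2mk00, sl2mk01,
        sl2mk10, sl2mk11]
      ring
    exact ⟨k, by simpa only [this] using hg⟩

end Cfsg.Agent.Cl
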