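import Cfsg.Agent.Cl.DicksonCount
import Cfsg.Agent.Cl.ProjLine
import Cfsg.Agent.Cl.SL2Tori

/-! Dickson's theorem: a finite subgroup of `SL_2` in odd characteristic `p` with more than one
Sylow `p`-subgroup contains a copy of `SL_2(p)`. -/

set_option autoImplicit false

namespace Cfsg.Agent.Cl

open Matrix MulAction
open scoped MatrixGroups LinearAlgebra.Projectivization commutatorElement

variable {K : Type*} [Field K]

/-- Upper unitriangular matrix in `SL_2`. -/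
def tU (a : K) : SL(2, K) := sl2mk 1 a 0 1 (by simp)

/-- Lower unitriangular matrix in `SL_2`. -/
def tL (b : K) : SL(2, K) := sl2mk 1 0 b 1 (by simp)

theorem tU_add (a b : K) : tU (a + b) = tU a * tU b := by
  apply sl2_ext <;> simp only [tU, sl2_mul, sl2mk00, sl2mk01, sl2mk10, sl2mk11] <;> ring

theorem tL_add (a b : K) : tL (a + b) = tL a * tL b := by
  apply sl2_ext <;> simp only [tL, sl2_mul, sl2mk00, sl2mk01, sl2mk10, sl2mk11] <;> ring

theorem tU_zero : tU (0 : K) = 1 := sl2_ext rfl rfl rfl rfl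

theorem tL_zero : tL (0 : K) = 1 := sl2_ext rfl rfl rfl rfl

theorem tU_pow (a : K) (n : ℕ) : tU a ^ n = tU (n * a) := by
  induction n with
  | zero => simp [tU_zero]
  | succ n ih => rw [pow_succ, ih, ← tU_add]; congr 1; push_cast; ring

theorem tL_pow (a : K) (n : ℕ) : tL a ^ n = tL (n * a) := by
  induction n with
  | zero => simp [tL_zero]
  | succ n ih => rw [pow_succ, ih, ← tL_add]; congr 1; push_cast; ring

theorem sl2_smul_ptL_zero_iff (A : SL(2, K)) : A • ptL (0 : K) = ptL 0 ↔ A.1 1 0 = 0 := by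
  simp [ptL, projLine_mk_eq_iff, sl2_smul_apply]

theorem sl2_smul_ptR_iff (A : SL(2, K)) (t : K) :
    A • ptR t = ptR t ↔ A.1 0 0 * t + A.1 0 1 - (A.1 1 0 * t + A.1 1 1) * t = 0 := by
  simp [ptR, projLine_mk_eq_iff, sl2_smul_apply]

theorem ptR_ne_ptL_zero (t : K) : ptR t ≠ ptL 0 := by
  simp [ptR, ptL, projLine_mk_eq_iff]

theorem ptR_inj {s t : K} : ptR s = ptR t ↔ s = t := by
  simp [ptR, projLine_mk_eq_iff, sub_eq_zero]

theorem projLine_cases (y : ℙ K (Fin 2 → K)) : y = ptL 0 ∨ ∃ t, y = ptR t := by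
  induction y using Projectivization.ind with | _ v hv => ?_
  by_cases h : v 1 = 0
  · left; simp [ptL, projLine_mk_eq_iff, h]
  · right; exact ⟨v 0 / v 1, by simp [ptR, projLine_mk_eq_iff]; field_simp; ring⟩

theorem sl2_exists_smul_pair {x y : ℙ K (Fin 2 → K)} (h : x ≠ y) :
    ∃ g : SL(2, K), g • ptL 0 = x ∧ g • ptR 0 = y :=
  (is_two_pretransitive_iff.1 inferInstance) (ptR_ne_ptL_zero 0).symm h

theorem sl2_exists_smul_ptL (x : ℙ K (Fin 2 → K)) : ∃ g : SL(2, K), g • ptL 0 = x :=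
  exists_smul_eq _ _ _

theorem sl2_neg_smul (A : SL(2, K)) (y : ℙ K (Fin 2 → K)) : (-A) • y = A • y := by
  induction y using Projectivization.ind with | _ v hv => ?_
  simp [projLine_mk_eq_iff, sl2_smul_apply]
  ring

theorem sl2_uni_std (A : SL(2, K)) :
    (A = 1 ∨ A = -1 ∨ ∀ y : ℙ K (Fin 2 → K), A • y = y ↔ y = ptL 0) ↔
      A.1 1 0 = 0 ∧ A.1 0 0 = A.1 1 1 := by
  have hd := sl2_det A
  constructor
  · rintro (rfl | rfl | h)
    · simp
    · simp
    · have h1 := (sl2_smul_ptL_zero_iff A).1 ((h _).2 rfl)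
      refine ⟨h1, ?_⟩
      by_contra h2
      apply ptR_ne_ptL_zero (A.1 0 1 / (A.1 1 1 - A.1 0 0))
      rw [← h, sl2_smul_ptR_iff, h1]
      have : A.1 1 1 - A.1 0 0 ≠ 0 := sub_ne_zero.2 (Ne.symm h2)
      field_simp
      ring
  · rintro ⟨h1, h2⟩
    by_cases hb : A.1 0 1 = 0
    · rw [h1, ← h2, mul_zero, sub_zero, mul_self_eq_one_iff] at hd
      rcases hd with hd | hd
      · left; apply sl2_ext <;> simp [hd, hb, h1, ← h2]
      · right; left; apply sl2_ext <;> simp [hd, hb, h1, ← h2]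
    · right; right
      intro y
      rcases projLine_cases y with rfl | ⟨t, rfl⟩
      · simp [sl2_smul_ptL_zero_iff, h1]
      · simp [sl2_smul_ptR_iff, h1, h2, hb, ptR_ne_ptL_zero]

theorem sl2_uni_std' {A : SL(2, K)} (h1 : A.1 1 0 = 0) (h2 : A.1 0 0 = A.1 1 1) :
    ∃ b, A = tU b ∨ A = -tU b := by
  have hd := sl2_det A
  rw [h1, ← h2, mul_zero, sub_zero, mul_self_eq_one_iff] at hd
  rcases hd with hd | hd
  · exact ⟨A.1 0 1, Or.inl (by apply sl2_ext <;> simp [tU, hd, h1, ← h2])⟩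
  · exact ⟨-A.1 0 1, Or.inr (by apply sl2_ext <;> simp [tU, hd, h1, ← h2])⟩

theorem sl2_two_fix_std {A : SL(2, K)} (h1 : A.1 1 0 = 0) (h2 : A.1 0 0 ≠ A.1 1 1)
    (y : ℙ K (Fin 2 → K)) :
    A • y = y ↔ y = ptL 0 ∨ y = ptR (A.1 0 1 / (A.1 1 1 - A.1 0 0)) := by
  have : A.1 1 1 - A.1 0 0 ≠ 0 := sub_ne_zero.2 (Ne.symm h2)
  rcases projLine_cases y with rfl | ⟨t, rfl⟩
  · simp [sl2_smul_ptL_zero_iff, h1]
  · simp only [sl2_smul_ptR_iff, h1, ptR_ne_ptL_zero, false_or, ptR_inj, eq_div_iff this]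
    constructor <;> intro h <;> linear_combination -h

open Polynomial in
theorem sl2_exists_fixed [IsAlgClosed K] (A : SL(2, K)) : ∃ x : ℙ K (Fin 2 → K), A • x = x := by
  by_cases h : A.1 1 0 = 0
  · exact ⟨_, (sl2_smul_ptL_zero_iff A).2 h⟩
  · obtain ⟨t, ht⟩ := IsAlgClosed.exists_root
      (C (A.1 1 0) * X ^ 2 + C (A.1 1 1 - A.1 0 0) * X + C (-A.1 0 1))
      (by rw [degree_quadratic h]; norm_num)
    refine ⟨ptR t, (sl2_smul_ptR_iff A t).2 ?_⟩
    simp only [IsRoot.def, eval_add, eval_mul, eval_C, eval_pow, eval_X] at ht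
    linear_combination -ht

theorem sl2_uni_conj (A h : SL(2, K)) :
    (A = 1 ∨ A = -1 ∨ ∀ y : ℙ K (Fin 2 → K), A • y = y ↔ y = h • ptL 0) ↔
      (h⁻¹ * A * h).1 1 0 = 0 ∧ (h⁻¹ * A * h).1 0 0 = (h⁻¹ * A * h).1 1 1 := by
  rw [← sl2_uni_std]
  refine or_congr ?_ (or_congr ?_ ?_)
  · rw [mul_assoc, inv_mul_eq_one, eq_comm (a := h), mul_eq_right]
  · rw [mul_assoc, inv_mul_eq_iff_eq_mul, ← eq_mul_inv_iff_mul_eq]; simp
  · constructor
    · intro H y
      rw [mul_smul, mul_smul, inv_smul_eq_iff, H, smul_left_cancel_iff]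
    · intro H y
      have := H (h⁻¹ • y)
      rwa [mul_smul, mul_smul, smul_inv_smul, smul_left_cancel_iff, inv_smul_eq_iff] at this

/-- The elements `±u` of `SL_2`, `u` a transvection with centre `x`. -/
def sl2Uni (x : ℙ K (Fin 2 → K)) : Subgroup SL(2, K) where
  carrier := {A | A = 1 ∨ A = -1 ∨ ∀ y : ℙ K (Fin 2 → K), A • y = y ↔ y = x}
  mul_mem' := by
    intro A B hA hB
    obtain ⟨h, rfl⟩ := sl2_exists_smul_ptL x
    simp only [Set.mem_ofPred_eq, sl2_uni_conj] at *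
    rw [show h⁻¹ * (A * B) * h = (h⁻¹ * A * h) * (h⁻¹ * B * h) by group]
    generalize h⁻¹ * A * h = A' at *
    generalize h⁻¹ * B * h = B' at *
    simp only [sl2_mul, hA.1, hA.2, hB.1, hB.2]
    simp
  one_mem' := Or.inl rfl
  inv_mem' := by
    intro A hA
    obtain ⟨h, rfl⟩ := sl2_exists_smul_ptL x
    simp only [Set.mem_ofPred_eq, sl2_uni_conj] at *
    rw [show h⁻¹ * A⁻¹ * h = (h⁻¹ * A * h)⁻¹ by group]
    generalize h⁻¹ * A * h = A' at *
    simp only [sl2_inv00, sl2_inv10, sl2_inv11, hA.1, hA.2]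
    simp

theorem mem_sl2Uni {x : ℙ K (Fin 2 → K)} {A : SL(2, K)} :
    A ∈ sl2Uni x ↔ A = 1 ∨ A = -1 ∨ ∀ y : ℙ K (Fin 2 → K), A • y = y ↔ y = x := Iff.rfl

theorem mem_sl2Uni_smul {A h : SL(2, K)} : A ∈ sl2Uni (h • ptL (0 : K)) ↔
    ∃ b, A = h * tU b * h⁻¹ ∨ A = -(h * tU b * h⁻¹) := by
  rw [mem_sl2Uni, sl2_uni_conj]
  constructor
  · rintro ⟨h1, h2⟩
    obtain ⟨b, hb | hb⟩ := sl2_uni_std' h1 h2
    · exact ⟨b, Or.inl (by rw [← hb]; group)⟩
    · exact ⟨b, Or.inr (by rw [← neg_mul, ← mul_neg, ← hb]; group)⟩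
  · rintro ⟨b, rfl | rfl⟩
    · rw [show h⁻¹ * (h * tU b * h⁻¹) * h = tU b by group]; simp [tU]
    · rw [mul_neg, neg_mul, show h⁻¹ * (h * tU b * h⁻¹) * h = tU b by group]; simp [tU]

theorem sl2Uni_comm {x : ℙ K (Fin 2 → K)} {A B : SL(2, K)} (hA : A ∈ sl2Uni x)
    (hB : B ∈ sl2Uni x) : A * B = B * A := by
  obtain ⟨h, rfl⟩ := sl2_exists_smul_ptL x
  obtain ⟨a, ha⟩ := mem_sl2Uni_smul.1 hA
  obtain ⟨b, hb⟩ := mem_sl2Uni_smul.1 hB
  have : h * tU a * h⁻¹ * (h * tU b * h⁻¹) = h * tU b * h⁻¹ * (h * tU a * h⁻¹) := by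
    rw [conj_mul, conj_mul, ← tU_add, ← tU_add, add_comm]
  rcases ha with rfl | rfl <;> rcases hb with rfl | rfl <;> simp [this]

theorem sl2_upper_pow {A : SL(2, K)} (h : A.1 1 0 = 0) (n : ℕ) :
    (A ^ n).1 1 0 = 0 ∧ (A ^ n).1 0 0 = A.1 0 0 ^ n := by
  induction n with
  | zero => simp
  | succ n ih => rw [pow_succ, sl2_mul, sl2_mul, ih.1, ih.2, h, pow_succ]; simp

/-- The image of a subgroup of `SL_2` in `PSL_2`. -/
abbrev psl2Im (H : Subgroup SL(2, K)) : Subgroup PSL(2, K) :=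
  H.map (QuotientGroup.mk' (Subgroup.center SL(2, K)))

theorem mk_mem_map_sl2Uni {x : ℙ K (Fin 2 → K)} {A : SL(2, K)} :
    (A : PSL(2, K)) ∈ psl2Im (sl2Uni x) ↔ A ∈ sl2Uni x := by
  refine ⟨?_, fun h => ⟨A, h, rfl⟩⟩
  rintro ⟨B, hB, h⟩
  have h1 : B⁻¹ * A ∈ Subgroup.center SL(2, K) := QuotientGroup.eq.1 h
  have h2 : B⁻¹ * A ∈ sl2Uni x := by
    rcases (sl2_mem_center_iff _).1 h1 with h | h <;> rw [h]
    · exact Or.inl rfl
    · exact Or.inr (Or.inl rfl)
  simpa using Subgroup.mul_mem _ hB h2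

theorem psl2_mk_eq_one {A : SL(2, K)} : (A : PSL(2, K)) = 1 ↔ A = 1 ∨ A = -1 := by
  rw [QuotientGroup.eq_one_iff, sl2_mem_center_iff]

/-- The data of the counting argument for a subgroup of `PSL_2`. -/
def dicksonPSL (p : ℕ) [hp : Fact p.Prime] [CharP K p] [IsAlgClosed K]
    (G : Subgroup PSL(2, K)) : DicksonData p G (ℙ K (Fin 2 → K)) where
  U x := (psl2Im (sl2Uni x)).subgroupOf G
  mem_U := by
    rintro x ⟨g, hg⟩
    obtain ⟨A, rfl⟩ := QuotientGroup.mk_surjective g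
    rw [Subgroup.mem_subgroupOf, mk_mem_map_sl2Uni, mem_sl2Uni, Subtype.ext_iff, ← or_assoc,
      ← psl2_mk_eq_one]
    rfl
  fix := by
    rintro ⟨g, hg⟩ hg1
    obtain ⟨A, rfl⟩ := QuotientGroup.mk_surjective g
    have hA : ¬ (A = 1 ∨ A = -1) := fun h => hg1 (Subtype.ext (psl2_mk_eq_one.2 h))
    change (∃ x : ℙ K (Fin 2 → K), ∀ y, A • y = y ↔ y = x) ∨
      ∃ x x' : ℙ K (Fin 2 → K), x ≠ x' ∧ ∀ y, A • y = y ↔ y = x ∨ y = x'
    obtain ⟨x, hx⟩ := sl2_exists_fixed A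
    obtain ⟨h, rfl⟩ := sl2_exists_smul_ptL x
    have h1 : (h⁻¹ * A * h).1 1 0 = 0 := by
      rw [← sl2_smul_ptL_zero_iff, mul_smul, mul_smul, hx, inv_smul_smul]
    by_cases h2 : (h⁻¹ * A * h).1 0 0 = (h⁻¹ * A * h).1 1 1
    · have := (sl2_uni_conj A h).2 ⟨h1, h2⟩
      left
      exact ⟨h • ptL 0, (or_assoc.2 this).resolve_left hA⟩
    · right
      refine ⟨h • ptL 0, h • ptR ((h⁻¹ * A * h).1 0 1 /
        ((h⁻¹ * A * h).1 1 1 - (h⁻¹ * A * h).1 0 0)), fun h3 => ptR_ne_ptL_zero _ (smul_left_cancel _ h3).symm,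
        fun y => ?_⟩
      have := sl2_two_fix_std h1 h2 (h⁻¹ • y)
      rwa [mul_smul, mul_smul, smul_inv_smul, smul_left_cancel_iff, inv_smul_eq_iff,
        inv_smul_eq_iff] at this
  comm := by
    rintro x ⟨g, hg⟩ ⟨k, hk⟩ h1 h2
    obtain ⟨A, rfl⟩ := QuotientGroup.mk_surjective g
    obtain ⟨B, rfl⟩ := QuotientGroup.mk_surjective k
    change A • x = x at h1
    change B • x = x at h2
    change ((⁅A, B⁆ : SL(2, K)) : PSL(2, K)) ∈ psl2Im (sl2Uni x)
    obtain ⟨h, rfl⟩ := sl2_exists_smul_ptL x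
    rw [mk_mem_map_sl2Uni, mem_sl2Uni, sl2_uni_conj]
    have h3 : (h⁻¹ * A * h).1 1 0 = 0 := by
      rw [← sl2_smul_ptL_zero_iff, mul_smul, mul_smul, h1, inv_smul_smul]
    have h4 : (h⁻¹ * B * h).1 1 0 = 0 := by
      rw [← sl2_smul_ptL_zero_iff, mul_smul, mul_smul, h2, inv_smul_smul]
    rw [show h⁻¹ * ⁅A, B⁆ * h = (h⁻¹ * A * h) * (h⁻¹ * B * h) * (h⁻¹ * A * h)⁻¹ *
      (h⁻¹ * B * h)⁻¹ by rw [commutatorElement_def]; group]
    generalize h⁻¹ * A * h = A' at *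
    generalize h⁻¹ * B * h = B' at *
    simp only [sl2_mul, sl2_inv00, sl2_inv01, sl2_inv10, sl2_inv11, h3, h4]
    constructor <;> ring
  pgroup := by
    rintro x ⟨⟨g, hg⟩, hg2⟩
    obtain ⟨A, rfl⟩ := QuotientGroup.mk_surjective g
    refine ⟨1, Subtype.ext (Subtype.ext ?_)⟩
    rw [Subgroup.mem_subgroupOf, mk_mem_map_sl2Uni] at hg2
    change ((A ^ p ^ 1 : SL(2, K)) : PSL(2, K)) = 1
    obtain ⟨h, rfl⟩ := sl2_exists_smul_ptL x
    rw [psl2_mk_eq_one, pow_one]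
    obtain ⟨b, rfl | rfl⟩ := mem_sl2Uni_smul.1 hg2
    · simp [tU_pow, tU_zero]
    · rw [neg_pow]
      simpa [tU_pow, tU_zero] using neg_one_pow_eq_or SL(2, K) p
  pelt := by
    rintro ⟨g, hg⟩ k hk
    obtain ⟨A, rfl⟩ := QuotientGroup.mk_surjective g
    obtain ⟨x, hx⟩ := sl2_exists_fixed A
    refine ⟨x, ?_⟩
    rw [Subgroup.mem_subgroupOf, mk_mem_map_sl2Uni]
    have hk2 : ((A ^ p ^ k : SL(2, K)) : PSL(2, K)) = 1 := congrArg Subtype.val hk
    obtain ⟨h, rfl⟩ := sl2_exists_smul_ptL x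
    rw [mem_sl2Uni, sl2_uni_conj]
    have h1 : (h⁻¹ * A * h).1 1 0 = 0 := by
      rw [← sl2_smul_ptL_zero_iff, mul_smul, mul_smul, hx, inv_smul_smul]
    refine ⟨h1, ?_⟩
    have h2 := (sl2_upper_pow h1 (p ^ k)).2
    have h3 : (h⁻¹ * A * h) ^ p ^ k = h⁻¹ * A ^ p ^ k * h := by
      simpa using conj_pow (a := h⁻¹) (b := A) (i := p ^ k)
    have hd := sl2_det (h⁻¹ * A * h)
    rw [h3] at h2
    generalize h⁻¹ * A * h = A' at *
    have h4 : (A'.1 0 0 ^ 2) ^ p ^ k = 1 := by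
      rw [← pow_mul, mul_comm, pow_mul, ← h2]
      rcases psl2_mk_eq_one.1 hk2 with h5 | h5 <;> simp [h5]
    have h5 : (A'.1 0 0 ^ 2 - 1) ^ p ^ k = 0 := by rw [sub_pow_char_pow, h4]; simp
    have h6 := pow_eq_zero_iff (pow_ne_zero k hp.out.ne_zero) |>.1 h5
    rw [h1] at hd
    linear_combination A'.1 1 1 * h6 - A'.1 0 0 * hd

theorem exists_sl2_prime_of_pair (p : ℕ) [hp : Fact p.Prime] [CharP K p] (H : Subgroup SL(2, K))
    {h : SL(2, K)} {a b : K} (hab : a * b = 1) (ha : h * tU a * h⁻¹ ∈ H)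
    (hb : h * tL b * h⁻¹ ∈ H) : ∃ φ : SL(2, ZMod p) →* SL(2, K),
      Function.Injective φ ∧ φ.range ≤ H := by
  let c := ZMod.castHom (dvd_refl p) K
  let ψ : SL(2, ZMod p) →* SL(2, K) := MonoidHom.mk' (fun g =>
    sl2mk (c (g.1 0 0)) (a * c (g.1 0 1)) (b * c (g.1 1 0)) (c (g.1 1 1)) (by
      have := congrArg c (sl2_det g)
      simp only [map_sub, map_mul, map_one] at this
      linear_combination this - c (g.1 0 1) * c (g.1 1 0) * hab)) (by
      intro g k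
      apply sl2_ext <;>
        simp only [sl2_mul, sl2mk00, sl2mk01, sl2mk10, sl2mk11, map_add, map_mul]
      · linear_combination (-(c (g.1 0 1) * c (k.1 1 0))) * hab
      · ring
      · ring
      · linear_combination (-(c (g.1 1 0) * c (k.1 0 1))) * hab)
  have ha0 : a ≠ 0 := left_ne_zero_of_mul_eq_one hab
  have hb0 : b ≠ 0 := right_ne_zero_of_mul_eq_one hab
  have hψ : Function.Injective ψ := by
    intro g k e
    obtain ⟨e1, e2, e3, e4⟩ := sl2_eq_iff.1 e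
    exact sl2_ext (c.injective e1) (c.injective (mul_left_cancel₀ ha0 e2))
      (c.injective (mul_left_cancel₀ hb0 e3)) (c.injective e4)
  refine ⟨(MulAut.conj h).toMonoidHom.comp ψ, (MulAut.conj h).injective.comp hψ, ?_⟩
  have : H.comap ((MulAut.conj h).toMonoidHom.comp ψ) = ⊤ := by
    apply sl_eq_top_of_transvection_mem
    intro i j hij t
    have hc : c t = (t.val : K) := by simp [c]
    change h * ψ _ * h⁻¹ ∈ H
    fin_cases i <;> fin_cases j
    · simp at hij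
    · convert H.pow_mem ha t.val using 1
      rw [conj_pow, tU_pow]
      congr 2
      apply sl2_ext <;> simp [ψ, tU, SpecialLinearGroup.transvection_coe, hc, mul_comm]
    · convert H.pow_mem hb t.val using 1
      rw [conj_pow, tL_pow]
      congr 2
      apply sl2_ext <;> simp [ψ, tL, SpecialLinearGroup.transvection_coe, hc, mul_comm]
    · simp at hij
  rintro _ ⟨g, rfl⟩
  have h2 : g ∈ H.comap ((MulAut.conj h).toMonoidHom.comp ψ) := by rw [this]; trivial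
  exact h2

theorem mem_of_neg_mem_of_pow {p : ℕ} (hp : Odd p) {H : Subgroup SL(2, K)} {u : SL(2, K)}
    (hu : u ^ p = 1) (h : -u ∈ H) : u ∈ H := by
  have := H.pow_mem h (p + 1)
  rwa [Even.neg_pow hp.add_one, pow_succ, hu, one_mul] at this

theorem conj_tU_mem (p : ℕ) [hp : Fact p.Prime] [CharP K p] (hp2 : p ≠ 2) {H : Subgroup SL(2, K)}
    {h A : SL(2, K)} (hA : A ∈ H) (hU : A ∈ sl2Uni (h • ptL (0 : K))) :
    ∃ a, h * tU a * h⁻¹ ∈ H ∧ (A = h * tU a * h⁻¹ ∨ A = -(h * tU a * h⁻¹)) := by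
  obtain ⟨a, ha⟩ := mem_sl2Uni_smul.1 hU
  refine ⟨a, ?_, ha⟩
  rcases ha with rfl | rfl
  · exact hA
  · exact mem_of_neg_mem_of_pow (hp.out.odd_of_ne_two hp2) (by simp [tU_pow, tU_zero]) hA

/-- The Weyl element of `SL_2`. -/
def sl2W : SL(2, K) := sl2mk 0 (-1) 1 0 (by simp)

theorem sl2W_smul : (sl2W : SL(2, K)) • ptL (0 : K) = ptR 0 := by
  simp [sl2W, ptL, ptR, projLine_mk_eq_iff, sl2_smul_apply]

theorem sl2W_conj (a : K) : sl2W * tU a * sl2W⁻¹ = tL (-a) := by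
  apply sl2_ext <;> simp only [sl2W, tU, tL, sl2_mul, sl2_inv00, sl2_inv01, sl2_inv10, sl2_inv11,
    sl2mk00, sl2mk01, sl2mk10, sl2mk11] <;> ring

theorem conj_tL_mem (p : ℕ) [hp : Fact p.Prime] [CharP K p] (hp2 : p ≠ 2) {H : Subgroup SL(2, K)}
    {h A : SL(2, K)} (hA : A ∈ H) (hU : A ∈ sl2Uni (h • ptR (0 : K))) :
    ∃ b, h * tL b * h⁻¹ ∈ H ∧ (A = h * tL b * h⁻¹ ∨ A = -(h * tL b * h⁻¹)) := by
  rw [← sl2W_smul, ← mul_smul] at hU
  obtain ⟨a, ha⟩ := conj_tU_mem p hp2 hA hU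
  refine ⟨-a, ?_⟩
  rwa [← sl2W_conj, show h * (sl2W * tU a * sl2W⁻¹) * h⁻¹ = h * sl2W * tU a * (h * sl2W)⁻¹ by group]

theorem dickson_algClosed (p : ℕ) [hp : Fact p.Prime] [CharP K p] [IsAlgClosed K] (hp2 : p ≠ 2)
    (H : Subgroup SL(2, K)) [Finite H] (P P' : Sylow p H) (hPP : P ≠ P') :
    ∃ φ : SL(2, ZMod p) →* SL(2, K), Function.Injective φ ∧ φ.range ≤ H := by
  have h2K : (2 : K) ≠ 0 := by
    intro h
    have := (CharP.cast_eq_zero_iff K p 2).1 (by exact_mod_cast h)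
    exact hp2 ((Nat.prime_dvd_prime_iff_eq hp.out Nat.prime_two).1 this)
  let π : H →* psl2Im H := (QuotientGroup.mk' (Subgroup.center SL(2, K))).subgroupMap H
  have hπ : Function.Surjective π := MonoidHom.subgroupMap_surjective _ _
  have : Finite (psl2Im H) := Finite.of_surjective π hπ
  let D := dicksonPSL p (psl2Im H)
  have hmem : ∀ (x : ℙ K (Fin 2 → K)) (A : H), π A ∈ D.U x ↔ A.1 ∈ sl2Uni x :=
    fun x A => mk_mem_map_sl2Uni
  have hne : ∀ R : Sylow p H, (R : Subgroup H).map π ≠ ⊥ := by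
    intro R hR
    have hR1 : (R : Subgroup H) = ⊥ := by
      rw [eq_bot_iff]
      intro A hA
      have h1 : π A = 1 := by
        have : π A ∈ (R : Subgroup H).map π := ⟨A, hA, rfl⟩
        rwa [hR] at this
      rcases psl2_mk_eq_one.1 (congrArg Subtype.val h1) with h | h
      · exact Subtype.ext h
      · exfalso
        obtain ⟨k, hk⟩ := R.isPGroup' ⟨A, hA⟩
        have h3 : A.1 ^ p ^ k = 1 := congrArg (fun x : (R : Subgroup H) => x.1.1) hk
        rw [h, (hp.out.odd_of_ne_two hp2).pow.neg_one_pow] at h3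
        exact sl2_neg_one_ne_one h2K h3
    apply hPP
    obtain ⟨g, rfl⟩ := MulAction.exists_smul_eq H R P
    obtain ⟨g', rfl⟩ := MulAction.exists_smul_eq H R P'
    apply Sylow.ext
    simp [Sylow.coe_subgroup_smul, hR1]
  obtain ⟨x0, hx0⟩ := D.exists_le_U (P.isPGroup'.map π) (hne P)
  obtain ⟨x1, hx1⟩ := D.exists_le_U (P'.isPGroup'.map π) (hne P')
  have h01 : x0 ≠ x1 := by
    rintro rfl
    apply hPP
    have h1 : (P' : Subgroup H) ≤ Subgroup.normalizer (P : Set H) := by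
      refine le_trans (fun B hB => ?_) (Subgroup.centralizer_le_normalizer _)
      intro A hA
      exact Subtype.ext (sl2Uni_comm ((hmem _ A).1 (hx0 ⟨A, hA, rfl⟩))
        ((hmem _ B).1 (hx1 ⟨B, hB, rfl⟩)))
    have h2 := P'.isPGroup'.inf_normalizer_sylow P
    rw [inf_eq_left.2 h1, left_eq_inf] at h2
    exact Sylow.ext (P'.is_maximal' P.isPGroup' h2)
  have h0 : D.U x0 ≠ ⊥ := fun h => hne P (eq_bot_iff.2 (h ▸ hx0))
  have h1 : D.U x1 ≠ ⊥ := fun h => hne P' (eq_bot_iff.2 (h ▸ hx1))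
  obtain ⟨h, rfl, rfl⟩ := sl2_exists_smul_pair h01
  obtain ⟨⟨v, hv⟩, hv1⟩ := Subgroup.ne_bot_iff_exists_ne_one.1 h1
  have hv2 : v ≠ 1 := fun h => hv1 (Subtype.ext h)
  obtain ⟨B, rfl⟩ := hπ v
  obtain ⟨b, hb1, hb2⟩ := conj_tL_mem p hp2 B.2 ((hmem _ B).1 hv)
  rcases D.dichotomy hp2 h0 h1 h01 with hd | ⟨rfl, hd⟩
  · obtain ⟨u, hu, hu2⟩ := hd (π B • h • ptL 0) (mem_orbit _ _)
      (fun h3 => h01 (D.eq_of_smul_eq hv hv2 h3))
    obtain ⟨A, rfl⟩ := hπ u
    obtain ⟨a, ha1, ha2⟩ := conj_tU_mem p hp2 A.2 ((hmem _ A).1 hu)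
    refine exists_sl2_prime_of_pair p H ?_ ha1 hb1
    change A.1 • h • ptR (0 : K) = B.1 • h • ptL 0 at hu2
    have h3 : tU a • ptR (0 : K) = tL b • ptL 0 := by
      rcases ha2 with ha2 | ha2 <;> rcases hb2 with hb2 | hb2 <;>
        simpa [ha2, hb2, sl2_neg_smul, mul_smul] using hu2
    simp [tU, tL, ptL, ptR, projLine_mk_eq_iff, sl2_smul_apply] at h3
    linear_combination h3
  · obtain ⟨⟨u, hu⟩, hu1⟩ := Subgroup.ne_bot_iff_exists_ne_one.1 h0
    have hu2 : u ≠ 1 := fun h => hu1 (Subtype.ext h)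
    obtain ⟨A, rfl⟩ := hπ u
    obtain ⟨a, ha1, ha2⟩ := conj_tU_mem 3 hp2 A.2 ((hmem _ A).1 hu)
    have ha0 : a ≠ 0 := by
      rintro rfl
      apply hu2
      apply Subtype.ext
      apply psl2_mk_eq_one.2
      simpa [tU_zero] using ha2
    have hb0 : b ≠ 0 := by
      rintro rfl
      apply hv2
      apply Subtype.ext
      apply psl2_mk_eq_one.2
      simpa [tL_zero] using hb2
    have h3 : (3 : K) = 0 := by exact_mod_cast CharP.cast_eq_zero K 3
    have key : ∀ c : K, h * tL c * h⁻¹ ∈ H →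
        (a * c - 1) ^ 3 * ((a * c - 1) ^ 2 - 1) = 0 ∨ (a * c - 1) ^ 4 + 1 = 0 := by
      intro c hc
      have hz : ∀ n : ℕ, π ⟨_, H.mul_mem ha1 hc⟩ ^ n = 1 → ((tU a * tL c) ^ n).1 0 1 = 0 := by
        intro n hn
        have h4 : (((h * tU a * h⁻¹ * (h * tL c * h⁻¹)) ^ n : SL(2, K)) : PSL(2, K)) = 1 :=
          congrArg Subtype.val hn
        rw [conj_mul, conj_pow, QuotientGroup.eq_one_iff] at h4
        have h5 := Subgroup.Normal.conj_mem inferInstance _ h4 h⁻¹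
        rw [show h⁻¹ * (h * (tU a * tL c) ^ n * h⁻¹) * h⁻¹⁻¹ = (tU a * tL c) ^ n by group,
          sl2_mem_center_iff] at h5
        rcases h5 with h5 | h5 <;> simp [h5]
      rcases hd (π ⟨_, H.mul_mem ha1 hc⟩) with h4 | h4
      · left
        have h5 := hz 6 h4
        simp only [pow_succ, pow_zero, one_mul, sl2_mul, tU, tL, sl2mk00, sl2mk01, sl2mk10,
          sl2mk11] at h5
        apply mul_left_cancel₀ ha0
        linear_combination h5 - a * (2 + 11 * a * c + 21 * (a * c) ^ 2 + 9 * (a * c) ^ 3 +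
          5 * (a * c) ^ 4) * h3
      · right
        have h5 := hz 5 h4
        simp only [pow_succ, pow_zero, one_mul, sl2_mul, tU, tL, sl2mk00, sl2mk01, sl2mk10,
          sl2mk11] at h5
        apply mul_left_cancel₀ ha0
        linear_combination h5 - a * (1 + 8 * a * c + 5 * (a * c) ^ 2 + 4 * (a * c) ^ 3) * h3
    have hb3 : h * tL (-b) * h⁻¹ ∈ H := by
      convert H.pow_mem hb1 2 using 1
      rw [conj_pow, tL_pow]
      congr 3
      push_cast
      linear_combination (-b) * h3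
    have hab0 : a * b ≠ 0 := mul_ne_zero ha0 hb0
    by_cases e1 : a * b = 1
    · exact exists_sl2_prime_of_pair 3 H e1 ha1 hb1
    by_cases e2 : a * -b = 1
    · exact exists_sl2_prime_of_pair 3 H e2 ha1 hb3
    have key2 : ∀ r : K, r ≠ 0 → r ≠ 1 → -r ≠ 1 → (r - 1) ^ 3 * ((r - 1) ^ 2 - 1) ≠ 0 := by
      intro r r0 r1 r2
      refine mul_ne_zero (pow_ne_zero _ (sub_ne_zero.2 r1)) fun h4 => ?_
      have : r * (-r - 1) = 0 := by linear_combination -h4 - r * h3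
      exact mul_ne_zero r0 (sub_ne_zero.2 r2) this
    have f1 := (key b hb1).resolve_left (key2 _ hab0 e1 (by rwa [← mul_neg]))
    have f2 := (key (-b) hb3).resolve_left
      (key2 _ (by simpa using hab0) e2 (by rwa [mul_neg, neg_neg]))
    have f3 : (a * b) ^ 2 = -1 := by
      apply mul_left_cancel₀ hab0
      linear_combination f1 - f2 + (3 * (a * b) ^ 3 + 3 * (a * b)) * h3
    refine exists_sl2_prime_of_pair 3 H (h := h * tU (1 / b)) (a := a) (b := -a * b ^ 2)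
      (by linear_combination -f3) ?_ ?_
    · rw [show h * tU (1 / b) * tU a * (h * tU (1 / b))⁻¹ =
        h * (tU (1 / b) * tU a * (tU (1 / b))⁻¹) * h⁻¹ by group, ← tU_add, add_comm, tU_add,
        mul_inv_cancel_right]
      exact ha1
    · convert H.mul_mem (H.mul_mem hb1 ha1) (H.inv_mem hb1) using 1
      rw [conj_mul, conj_inv, conj_mul, show h * tU (1 / b) * tL (-a * b ^ 2) * (h * tU (1 / b))⁻¹ =
        h * (tU (1 / b) * tL (-a * b ^ 2) * (tU (1 / b))⁻¹) * h⁻¹ by group]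
      congr 2
      apply sl2_ext <;> simp only [tU, tL, sl2_mul, sl2_inv00, sl2_inv01, sl2_inv10, sl2_inv11,
        sl2mk00, sl2mk01, sl2mk10, sl2mk11] <;> field_simp <;> ring

theorem dickson_sl2 {F : Type*} [Field F] (p : ℕ) [hp : Fact p.Prime] [CharP F p] (hp2 : p ≠ 2)
    (H : Subgroup SL(2, F)) [Finite H] (hH : 1 < Nat.card (Sylow p H)) :
    ∃ φ : SL(2, ZMod p) →* SL(2, F), Function.Injective φ ∧ φ.range ≤ H := by
  let f : SL(2, F) →* SL(2, AlgebraicClosure F) :=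
    SpecialLinearGroup.map (algebraMap F (AlgebraicClosure F))
  have hf : Function.Injective f := by
    intro a b h
    obtain ⟨e1, e2, e3, e4⟩ := sl2_eq_iff.1 h
    have i := (algebraMap F (AlgebraicClosure F)).injective
    exact sl2_ext (i e1) (i e2) (i e3) (i e4)
  let e : H ≃* H.map f := H.equivMapOfInjective f hf
  have : Finite (H.map f) := Finite.of_equiv _ e.toEquiv
  obtain ⟨P, P', hPP⟩ := Finite.one_lt_card_iff_nontrivial.1 hH
  obtain ⟨φ, hφ, hφ2⟩ := dickson_algClosed p hp2 (H.map f)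
    (P.mapSurjective (f := e.toMonoidHom) e.surjective)
    (P'.mapSurjective (f := e.toMonoidHom) e.surjective) (fun h => hPP (Sylow.ext
      (Subgroup.map_injective (f := e.toMonoidHom) e.injective (congrArg (fun R : Sylow p (H.map f) =>
        (R : Subgroup (H.map f))) h))))
  let ψ : SL(2, ZMod p) →* H.map f := φ.codRestrict _ fun g => hφ2 ⟨g, rfl⟩
  refine ⟨H.subtype.comp (e.symm.toMonoidHom.comp ψ), ?_, ?_⟩
  · exact Subtype.val_injective.comp (e.symm.injective.comp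
      ((φ.injective_codRestrict _ _).2 hφ))
  · rintro _ ⟨g, rfl⟩
    exact Subtype.mem _

theorem quaternion_not_isCyclic {k : ℕ} (hk : 1 ≤ k) : ¬ IsCyclic (QuaternionGroup (2 ^ k)) := by
  intro h
  have h1 := (IsCyclic.isMulCommutative (α := QuaternionGroup (2 ^ k))).is_comm.comm
    (.a 1) (.xa 0)
  simp only [QuaternionGroup.a_mul_xa, QuaternionGroup.xa_mul_a, QuaternionGroup.xa.injEq] at h1
  have h2 : ((2 : ℕ) : ZMod (2 * 2 ^ k)) = 0 := by push_cast; linear_combination -h1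
  have h3 := Nat.le_of_dvd two_pos ((ZMod.natCast_eq_zero_iff _ _).1 h2)
  have : 2 ^ 1 ≤ 2 ^ k := Nat.pow_le_pow_right (by norm_num) hk
  omega

theorem quaternion_of_injective {T : Type*} [Group T] {k : ℕ} (ι : T →* QuaternionGroup (2 ^ k))
    (hι : Function.Injective ι) (huniq : ∀ a b : T, a ≠ 1 → a * a = 1 → b ≠ 1 → b * b = 1 → a = b)
    (hT : ¬ IsCyclic T) : ∃ j, 1 ≤ j ∧ Nonempty (T ≃* QuaternionGroup (2 ^ j)) := by
  have : Finite T := Finite.of_injective _ hι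
  let A : Subgroup T := (Subgroup.zpowers (QuaternionGroup.a 1)).comap ι
  have hA : ∀ t : T, t ∈ A ↔ ∃ i, ι t = .a i := by
    intro t
    constructor
    · intro ht
      obtain ⟨n, hn⟩ := (mem_powers_iff_mem_zpowers (G := QuaternionGroup (2 ^ k))).2 ht
      exact ⟨n, by rw [← hn]; exact QuaternionGroup.a_one_pow n⟩
    · rintro ⟨i, hi⟩
      refine ⟨i.val, ?_⟩
      simp only [zpow_natCast, QuaternionGroup.a_one_pow, ZMod.natCast_zmod_val, hi]
  have hcyc : IsCyclic A := isCyclic_of_injective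
    ((ι.comp A.subtype).codRestrict (Subgroup.zpowers (QuaternionGroup.a 1)) fun t => t.2)
    ((MonoidHom.injective_codRestrict _ _ _).2 (hι.comp Subtype.val_injective))
  obtain ⟨x, hx⟩ := (Subgroup.isCyclic_iff_exists_zpowers_eq_top A).1 hcyc
  obtain ⟨y, hy⟩ : ∃ y, y ∉ A := by
    by_contra h
    push Not at h
    exact hT ⟨x, fun t => by have := h t; rwa [← hx] at this⟩
  obtain ⟨i, hi⟩ : ∃ i, ι y = .xa i := by
    rcases h : ι y with i | i
    · exact absurd ((hA y).2 ⟨i, h⟩) hy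
    · exact ⟨i, rfl⟩
  obtain ⟨l, hl⟩ := (hA x).1 (hx ▸ Subgroup.mem_zpowers x)
  have hyy : ι (y * y) = .a (2 ^ k : ℕ) := by rw [map_mul, hi]; simp
  have ho : orderOf y = 4 := by rw [← orderOf_injective ι hι, hi, QuaternionGroup.orderOf_xa]
  have hyy1 : y * y ≠ 1 := by
    intro h
    have := Nat.le_of_dvd two_pos (orderOf_dvd_of_pow_eq_one (x := y) (by rwa [pow_two]))
    omega
  have hyy2 : y * y * (y * y) = 1 := by
    rw [← pow_orderOf_eq_one y, ho]; simp only [pow_succ, pow_zero, one_mul, mul_assoc]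
  have hox : orderOf x ∣ 2 ^ (k + 1) := by
    rw [← orderOf_injective ι hι, pow_succ', ← QuaternionGroup.orderOf_a_one]
    exact orderOf_dvd_of_mem_zpowers (show x ∈ A from hx ▸ Subgroup.mem_zpowers x)
  obtain ⟨m, -, hm⟩ := (Nat.dvd_prime_pow Nat.prime_two).1 hox
  obtain ⟨j, rfl⟩ : ∃ j, m = j + 1 := by
    refine ⟨m - 1, ?_⟩
    rcases Nat.eq_zero_or_pos m with rfl | h
    · exfalso
      have h1 : y * y ∈ A := (hA _).2 ⟨_, hyy⟩
      rw [← hx, orderOf_eq_one_iff.1 hm] at h1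
      simp [hyy1] at h1
    · omega
  rw [pow_succ'] at hm
  obtain ⟨φ, hφ, h1, h2⟩ := exists_quaternion_hom (x := x) (y := y) hm (by
      refine huniq _ _ hyy1 hyy2 (fun h => ?_) (by rw [← pow_add, ← two_mul, ← hm,
        pow_orderOf_eq_one])
      have := Nat.le_of_dvd (by positivity) (orderOf_dvd_of_pow_eq_one h)
      have : 0 < 2 ^ j := by positivity
      omega) (by
      rw [eq_inv_mul_iff_mul_eq]
      apply hι
      rw [map_mul, map_mul, hi, hl]
      simp) (by rwa [hx])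
  have hs : Function.Surjective φ := by
    rw [← MonoidHom.range_eq_top, eq_top_iff]
    have hle : A ≤ φ.range := by
      rw [← hx, Subgroup.zpowers_le]; exact ⟨_, h1⟩
    intro t _
    rcases h : ι t with s | s
    · exact hle ((hA t).2 ⟨s, h⟩)
    · have : y * t ∈ A := (hA _).2 ⟨_, by rw [map_mul, hi, h, QuaternionGroup.xa_mul_xa]⟩
      exact (Subgroup.mul_mem_cancel_left φ.range ⟨_, h2⟩).1 (hle this)
  refine ⟨j, ?_, ⟨(MulEquiv.ofBijective φ ⟨hφ, hs⟩).symm⟩⟩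
  rcases Nat.eq_zero_or_pos j with rfl | h
  · exfalso
    have : IsCyclic (QuaternionGroup (2 ^ 0)) := QuaternionGroup.quaternionGroup_one_isCyclic
    exact hT (isCyclic_of_surjective φ hs)
  · exact h

theorem dickson_sylow_two {F : Type*} [Field F] [Fintype F] (p : ℕ) [hp : Fact p.Prime]
    [CharP F p] (hp2 : p ≠ 2) (H : Subgroup SL(2, F)) (hH : 1 < Nat.card (Sylow p H))
    (S : Sylow 2 H) :
    ∃ k : ℕ, 1 ≤ k ∧ Nonempty ((S : Subgroup H) ≃* QuaternionGroup (2 ^ k)) := by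
  have hF : Odd (Fintype.card F) := by
    obtain ⟨k, -, hk⟩ := exists_card_eq_char_pow (F := F) p
    rw [hk]; exact (hp.out.odd_of_ne_two hp2).pow
  have h2 := two_ne_zero_of_odd_card hF
  obtain ⟨P, hP⟩ := (S.isPGroup'.map H.subtype).exists_le_sylow
  obtain ⟨k, hk, ⟨e⟩⟩ := sylow_two_sl2_quaternion hF P
  let κ : (S : Subgroup H) →* SL(2, F) := H.subtype.comp (S : Subgroup H).subtype
  have hκ : Function.Injective κ := Subtype.val_injective.comp Subtype.val_injective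
  refine quaternion_of_injective
    (e.toMonoidHom.comp (κ.codRestrict (P : Subgroup SL(2, F)) fun s => hP ⟨s, s.2, rfl⟩))
    (e.injective.comp ((κ.injective_codRestrict _ _).2 hκ)) ?_ ?_
  · intro a b a1 a2 b1 b2
    apply hκ
    rw [sl2_involution h2 (κ a) (by simpa using (hκ.ne a1)) (by rw [← map_mul, a2, map_one]),
      sl2_involution h2 (κ b) (by simpa using (hκ.ne b1)) (by rw [← map_mul, b2, map_one])]
  · intro hS
    obtain ⟨φ, hφ, hφ2⟩ := dickson_sl2 p hp2 H hH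
    obtain ⟨j, m, hj, -, -, ψ, hψ⟩ := exists_quaternion_hom_sl2 (F := ZMod p)
      (by rw [ZMod.card]; exact hp.out.odd_of_ne_two hp2)
    let χ : QuaternionGroup (2 ^ j) →* H := (φ.codRestrict _ fun g => hφ2 ⟨g, rfl⟩).comp ψ
    have hχ : Function.Injective χ :=
      ((φ.injective_codRestrict H fun g => hφ2 ⟨g, rfl⟩).2 hφ).comp hψ
    have hq : IsPGroup 2 (QuaternionGroup (2 ^ j)) := IsPGroup.of_card (n := j + 2) (by
      rw [Nat.card_eq_fintype_card, QuaternionGroup.card]; ring)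
    obtain ⟨S', hS'⟩ := (hq.of_surjective _ χ.rangeRestrict_surjective).exists_le_sylow
    have : IsCyclic (S' : Subgroup H) :=
      isCyclic_of_surjective (Sylow.equiv S S') (MulEquiv.surjective _)
    exact quaternion_not_isCyclic hj (isCyclic_of_injective
      (χ.codRestrict (S' : Subgroup H) fun g => hS' ⟨g, rfl⟩) ((χ.injective_codRestrict _ _).2 hχ))

end Cfsg.Agent.Cl
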