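import Cfsg.Agent.Cl.SimpleBasic
import Cfsg.Agent.Cl.SLCard

/-! A simple group of order 60 is `A_5`. -/

set_option autoImplicit false

namespace Cfsg.Agent.Cl

open MulAction Subgroup Equiv

/-- A simple subgroup of index `n + 1` in `A_{n+1}` is `A_n`. -/
theorem nonempty_equiv_alternating_of_index {G X : Type*} [Group G] [Fintype X] [DecidableEq X]
    (ψ : G →* alternatingGroup X) (hψ : Function.Injective ψ) {n : ℕ} (hn : 4 ≤ n)
    (hX : Nat.card X = n + 1) (hG : 2 * Nat.card G = n.factorial) :
    Nonempty (G ≃* alternatingGroup (Fin n)) := by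
  have : IsSimpleGroup (alternatingGroup X) := alternatingGroup.isSimpleGroup (by omega)
  have : Nontrivial X := by rw [← Finite.one_lt_card_iff_nontrivial]; omega
  have hpos : 0 < Nat.card G := by have := n.factorial_pos; omega
  have hidx : ψ.range.index = n + 1 := by
    have h1 := ψ.range.index_mul_card
    have h2 := two_mul_nat_card_alternatingGroup (α := X)
    rw [Nat.card_perm, hX, Nat.factorial_succ, ← hG, ← h1,
      ← Nat.card_congr (MonoidHom.ofInjective hψ).toEquiv] at h2
    refine Nat.eq_of_mul_eq_mul_right hpos ?_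
    nlinarith
  have hne : ψ.range ≠ ⊤ := fun h => by rw [h, index_top] at hidx; omega
  let b : alternatingGroup X ⧸ ψ.range := ((1 : alternatingGroup X) : _ ⧸ _)
  let _ : MulAction G (alternatingGroup X ⧸ ψ.range) := MulAction.compHom _ ψ
  have hb : ∀ g : G, g • b = b := fun g => by
    change ψ g • b = b
    rw [Quotient.smul_coe, QuotientGroup.eq]
    simp
  let S : SubMulAction G (alternatingGroup X ⧸ ψ.range) :=
    ⟨{y | y ≠ b}, fun g y hy h => hy (smul_left_cancel g (h.trans (hb g).symm))⟩
  refine nonempty_equiv_alternating_of_injective (toPermHom G S) ?_ ?_ hG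
  · rw [injective_iff_map_eq_one]
    intro g hg
    apply hψ
    rw [map_one]
    refine eq_one_of_forall_smul_eq (exists_smul_quotient_ne hne) fun y => ?_
    by_cases hy : y = b
    · rw [hy]; exact hb g
    · exact congrArg Subtype.val (congrArg (fun σ : Perm S => σ ⟨y, hy⟩) hg)
  · change Nat.card ({b}ᶜ : Set _) = n
    rw [Nat.card_coe_set_eq, Set.ncard_compl, Set.ncard_singleton, ← index_eq_card, hidx]
    rfl

theorem sylow_index_eq {G : Type*} [Group G] [Finite G] {p k m : ℕ} [hp : Fact p.Prime]
    (P : Sylow p G) (h : Nat.card G = p ^ k * m) (hm : ¬ p ∣ m) : (P : Subgroup G).index = m := by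
  have h1 := (P : Subgroup G).card_mul_index
  have h2 : Nat.card (P : Subgroup G) = p ^ k := card_sylow_of_card_eq P h hm
  rw [h2, h] at h1
  exact Nat.eq_of_mul_eq_mul_left (pow_pos hp.out.pos _) h1

theorem simple_card_sixty {G : Type*} [Group G] [Finite G] [IsSimpleGroup G]
    (h : Nat.card G = 60) : Nonempty (G ≃* alternatingGroup (Fin 5)) := by
  classical
  have hG : ¬ IsMulCommutative G := not_comm_of_not_prime (by rw [h]; norm_num)
  have : Fact (Nat.Prime 5) := ⟨by norm_num⟩
  obtain ⟨P⟩ : Nonempty (Sylow 5 G) := inferInstance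
  have h5 : 5 ∣ Nat.card G := by rw [h]; norm_num
  have h1 := card_sylow_ne_one hG h5
  have h2 := P.card_dvd_index
  rw [sylow_index_eq (k := 1) (m := 12) P (by rw [h]; norm_num) (by norm_num)] at h2
  have h3 := card_sylow_modEq_one 5 G
  have h4 : Nat.card (Sylow 5 G) = 6 := by
    have := Nat.le_of_dvd (by norm_num) h2
    unfold Nat.ModEq at h3
    generalize Nat.card (Sylow 5 G) = k at *
    interval_cases k <;> simp_all
  have := Fintype.ofFinite (Sylow 5 G)
  refine nonempty_equiv_alternating_of_index
    ((toPermHom G (Sylow 5 G)).codRestrict _ fun g => sign_toPerm_eq_one hG g) ?_ (by norm_num) h4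
    (by rw [h]; rfl)
  exact (MonoidHom.injective_codRestrict _ _ _).2
    (toPermHom_injective_of_simple (exists_smul_sylow_ne hG h5))

theorem card_psl_two_of_odd {F : Type*} [Field F] [Fintype F] {q : ℕ} (hF : Fintype.card F = q)
    (hq : Odd q) :
    2 * Nat.card (Matrix.ProjectiveSpecialLinearGroup (Fin 2) F) = q * (q - 1) * (q + 1) := by
  classical
  have h := gcd_mul_card_psl_two (F := F)
  rw [hF] at h
  obtain ⟨k, rfl⟩ := hq
  rwa [Nat.add_sub_cancel, Nat.gcd_mul_right_right] at h

end Cfsg.Agent.Cl
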