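import Cfsg.Agent.Cl.Simple60

/-! The index test for subgroups of a finite simple group, and intersections of Sylow subgroups
of index `p`. -/

set_option autoImplicit false

namespace Cfsg.Agent.Cl

open MulAction Subgroup Equiv

/-- Necessary condition for a simple group of order `n` to have a subgroup of index `k`. -/
def idxOK (n k : ℕ) : Prop :=
  11 ≤ k ∨ ∃ d < 11, d ∣ k ∧ 2 * n ∣ d.factorial ∧
    (d.factorial = 2 * n ∨ 3 ∣ d.factorial / (2 * n))

instance decIdxOK (n k : ℕ) : Decidable (idxOK n k) := by unfold idxOK; infer_instance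

theorem idxOK.of_dvd {n k l : ℕ} (h : idxOK n k) (hl : k ∣ l) (h0 : l ≠ 0) : idxOK n l := by
  rcases h with h | ⟨d, h1, h2, h3⟩
  · exact Or.inl (h.trans (Nat.le_of_dvd (Nat.pos_of_ne_zero h0) hl))
  · exact Or.inr ⟨d, h1, h2.trans hl, h3⟩

section
variable {G : Type*} [Group G] [IsSimpleGroup G] [Finite G]

theorem factorial_index_of_isCoatom (hG : ¬ IsMulCommutative G) {M : Subgroup G}
    (hM : IsCoatom M) : M.index.factorial = 2 * Nat.card G ∨
      3 ∣ M.index.factorial / (2 * Nat.card G) := by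
  classical
  have := Fintype.ofFinite (G ⧸ M)
  have hmove := exists_smul_quotient_ne hM.1
  have hi := toPermHom_injective_of_simple hmove
  obtain ⟨j, hj⟩ := two_mul_card_dvd_factorial_index hG hM.1
  have hpos : 0 < Nat.card G := Nat.card_pos
  rw [hj, Nat.mul_div_cancel_left _ (by omega)]
  by_cases h3 : 3 ∣ j
  · exact Or.inr h3
  left
  have : Nontrivial (G ⧸ M) := by
    obtain ⟨g, x, hx⟩ := hmove
    exact ⟨_, _, hx⟩
  set R := (toPermHom G (G ⧸ M)).range with hR
  have hRc : Nat.card R = Nat.card G := (Nat.card_congr (MonoidHom.ofInjective hi).toEquiv).symm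
  have hRi : R.index = 2 * j := by
    have h1 := R.index_mul_card
    rw [Nat.card_perm, ← index_eq_card, hj, hRc] at h1
    refine Nat.eq_of_mul_eq_mul_right hpos ?_
    rw [h1]; ring
  have hprim : IsPreprimitive G (G ⧸ M) := by
    rw [← isCoatom_stabilizer_iff_preprimitive G ((1 : G) : G ⧸ M), stabilizer_quotient]
    exact hM
  let f : (G ⧸ M) →ₑ[(toPermHom G (G ⧸ M)).rangeRestrict] (G ⧸ M) :=
    ⟨id, fun _ _ => rfl⟩
  have hprim' : IsPreprimitive R (G ⧸ M) :=
    IsPreprimitive.of_surjective (f := f) Function.surjective_id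
  have hk : 3 ≤ Fintype.card (G ⧸ M) := by
    by_contra hlt
    have h1 : M.index ≤ 2 := by rw [index_eq_card, Nat.card_eq_fintype_card]; omega
    have h2 : M.index.factorial ≤ 2 := Nat.factorial_le h1
    have h4 : 1 < Nat.card G := Finite.one_lt_card
    have h5 := M.index.factorial_pos
    rw [hj] at h2 h5
    have : 0 < j := Nat.pos_of_mul_pos_left h5
    nlinarith
  obtain ⟨c, hc⟩ : ∃ c : Perm (G ⧸ M), c.IsThreeCycle := by
    obtain ⟨a, b, c, hab, hac, hbc⟩ := Fintype.two_lt_card_iff.1 (show 2 < _ from hk)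
    exact ⟨_, Perm.isThreeCycle_swap_mul_swap_same hab hac hbc⟩
  have : Fact (Nat.Prime 3) := ⟨Nat.prime_three⟩
  have hp : IsPGroup 3 (zpowers c) :=
    IsPGroup.of_card (n := 1) (by rw [Nat.card_zpowers, hc.orderOf, pow_one])
  obtain ⟨y, hy⟩ := hp.nonempty_fixed_point_of_prime_not_dvd_card (Perm (G ⧸ M) ⧸ R) (by
    rw [← index_eq_card, hRi]; omega)
  obtain ⟨s, rfl⟩ := QuotientGroup.mk_surjective y
  have h1 := hy ⟨c⁻¹, inv_mem (mem_zpowers c)⟩
  change c⁻¹ • (s : Perm (G ⧸ M) ⧸ R) = s at h1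
  rw [Quotient.smul_coe, QuotientGroup.eq] at h1
  simp only [smul_eq_mul, mul_inv_rev, inv_inv] at h1
  have hc' : (s⁻¹ * c * s).IsThreeCycle := by
    have := hc.cycleType
    rw [← Perm.cycleType_conj (τ := s⁻¹), inv_inv] at this
    exact this
  have h2 := card_le_of_le
    (Perm.alternatingGroup_le_of_isPreprimitive_of_isThreeCycle_mem hprim' hc' h1)
  have h4 := two_mul_nat_card_alternatingGroup (α := G ⧸ M)
  rw [Nat.card_perm, ← index_eq_card, hj] at h4
  rw [hRc] at h2
  have h5 := M.index.factorial_pos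
  rw [hj] at h5
  have : 0 < j := Nat.pos_of_mul_pos_left h5
  nlinarith

theorem idxOK_index (hG : ¬ IsMulCommutative G) {H : Subgroup G} (hH : H ≠ ⊤) :
    idxOK (Nat.card G) H.index := by
  obtain ⟨M, hM, hHM⟩ := (eq_top_or_exists_le_coatom H).resolve_left hH
  refine idxOK.of_dvd (k := M.index) ?_ (index_dvd_of_le hHM) index_ne_zero_of_finite
  by_cases h : 11 ≤ M.index
  · exact Or.inl h
  · exact Or.inr ⟨M.index, by omega, dvd_rfl, two_mul_card_dvd_factorial_index hG hM.1,
      factorial_index_of_isCoatom hG hM⟩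

/-- A proper subgroup whose order is a multiple of `a` forces the index test for `n / a`. -/
theorem idxOK_of_dvd_card (hG : ¬ IsMulCommutative G) {H : Subgroup G} (hH : H ≠ ⊤) {a b : ℕ}
    (ha : a ∣ Nat.card H) (hn : Nat.card G = a * b) : idxOK (Nat.card G) b := by
  have hpos : 0 < Nat.card G := Nat.card_pos
  refine (idxOK_index hG hH).of_dvd ?_ (by rintro rfl; omega)
  obtain ⟨c, hc⟩ := ha
  have h1 := H.card_mul_index
  rw [hc, hn, mul_assoc] at h1
  exact ⟨c, by rw [← Nat.eq_of_mul_eq_mul_left (Nat.pos_of_mul_pos_right (hn ▸ hpos)) h1, mul_comm]⟩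

end

section
variable {G : Type*} [Group G] [Finite G]

theorem le_normalizer_of_index_prime {p a : ℕ} [hp : Fact p.Prime] {D P : Subgroup G} (h : D ≤ P)
    (hP : Nat.card P = p ^ (a + 1)) (hD : Nat.card D = p ^ a) : P ≤ normalizer (D : Set G) := by
  rw [← normal_subgroupOf_iff_le_normalizer h]
  apply normal_of_index_eq_minFac_card
  have h1 := (D.subgroupOf P).card_mul_index
  rw [Nat.card_congr (subgroupOfEquivOfLe h).toEquiv, hD, hP, pow_succ] at h1
  rw [Nat.eq_of_mul_eq_mul_left (pow_pos hp.out.pos _) h1, hP, hp.out.pow_minFac (by omega)]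

/-- Two distinct Sylow subgroups of `G` inside `N`. -/
theorem one_lt_card_sylow_of_le {p : ℕ} [Fact p.Prime] {N : Subgroup G} {P Q : Sylow p G}
    (hPQ : P ≠ Q) (hP : P ≤ N) (hQ : Q ≤ N) : 1 < Nat.card (Sylow p N) := by
  rw [Finite.one_lt_card_iff_nontrivial]
  exact ⟨P.subtype hP, Q.subtype hQ, fun h => hPQ (Sylow.subtype_injective h)⟩

/-- Burnside's theorem for an abelian self-normalising Sylow subgroup of a subgroup. -/
theorem exists_normal_compl_of_card_sylow {p t : ℕ} [hp : Fact p.Prime] {N : Subgroup G}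
    (P : Sylow p N) [IsMulCommutative P] (hN : Nat.card N = Nat.card P * t)
    (ht : Nat.card (Sylow p N) = t) :
    ∃ V : Subgroup G, V ≤ N ∧ Nat.card V = t ∧ N ≤ normalizer (V : Set G) := by
  have hpos : 0 < t := ht ▸ Nat.card_pos
  have h1 : normalizer (P : Set N) = P := by
    symm
    apply eq_of_le_of_card_ge le_normalizer
    have h2 := (normalizer (P : Set N)).card_mul_index
    rw [← P.card_eq_index_normalizer, ht, hN] at h2
    exact (Nat.eq_of_mul_eq_mul_right hpos h2).le
  have h2 : normalizer (P : Set N) ≤ centralizer (P : Set N) := by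
    rw [h1]
    exact le_centralizer (P : Subgroup N)
  have hc := MonoidHom.ker_transferSylow_isComplement' P h2
  refine ⟨(MonoidHom.transferSylow P h2).ker.map N.subtype, map_subtype_le _, ?_, ?_⟩
  · rw [card_map_of_injective N.subtype_injective]
    have h3 := hc.card_mul_card
    rw [hN, mul_comm] at h3
    exact Nat.eq_of_mul_eq_mul_left Nat.card_pos h3
  · refine le_trans ?_ (le_normalizer_map _)
    rw [normalizer_eq_top_iff.2 inferInstance, ← MonoidHom.range_eq_map, range_subtype]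

theorem exists_normal_four {N : Subgroup G} (hN : Nat.card N = 36)
    (h : 1 < Nat.card (Sylow 3 N)) :
    ∃ V : Subgroup G, V ≤ N ∧ Nat.card V = 4 ∧ N ≤ normalizer (V : Set G) := by
  have : Fact (Nat.Prime 3) := ⟨Nat.prime_three⟩
  obtain ⟨P⟩ : Nonempty (Sylow 3 N) := inferInstance
  have hP : Nat.card P = 3 ^ 2 := card_sylow_of_card_eq (m := 4) P (by rw [hN]; rfl) (by norm_num)
  have : IsMulCommutative P := IsPGroup.isMulCommutative_of_card_eq_prime_sq hP
  refine exists_normal_compl_of_card_sylow P (by rw [hN, hP]; rfl) ?_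
  have h2 := P.card_dvd_index
  rw [sylow_index_eq (k := 2) (m := 4) P (by rw [hN]; rfl) (by norm_num)] at h2
  have h3 := card_sylow_modEq_one 3 N
  have := Nat.le_of_dvd (by norm_num) h2
  unfold Nat.ModEq at h3
  generalize Nat.card (Sylow 3 N) = k at *
  interval_cases k <;> simp_all

end

/-- Necessary condition for two Sylow `p`-subgroups to meet in a subgroup of index `p` whose
normaliser has order `p ^ a * t`. -/
def meetOK (n p a m t : ℕ) : Prop :=
  t ∣ m ∧ (∃ d ≤ t, d ∣ t ∧ d % p = 1 ∧ 1 < d) ∧ idxOK n (m / t) ∧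
    (p = 3 → a = 2 → t = 4 → 8 ∣ m → idxOK n (m / 8))

instance decMeetOK (n p a m t : ℕ) : Decidable (meetOK n p a m t) := by
  unfold meetOK; infer_instance

theorem exists_meetOK {G : Type*} [Group G] [IsSimpleGroup G] [Finite G]
    (hG : ¬ IsMulCommutative G) {p a m : ℕ} [hp : Fact p.Prime]
    (hn : Nat.card G = p ^ (a + 2) * m) (hm : ¬ p ∣ m) {P Q : Sylow p G} (hPQ : P ≠ Q)
    (hD : Nat.card ((P : Subgroup G) ⊓ Q : Subgroup G) = p ^ (a + 1)) :
    ∃ t, meetOK (Nat.card G) p (a + 2) m t ∧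
      Nat.card (normalizer (((P : Subgroup G) ⊓ Q : Subgroup G) : Set G)) = p ^ (a + 2) * t ∧
      1 < Nat.card (Sylow p (normalizer (((P : Subgroup G) ⊓ Q : Subgroup G) : Set G))) := by
  set D : Subgroup G := (P : Subgroup G) ⊓ Q
  set N := normalizer (D : Set G)
  have hP : Nat.card (P : Subgroup G) = p ^ (a + 2) := card_sylow_of_card_eq P hn hm
  have hQ : Nat.card (Q : Subgroup G) = p ^ (a + 2) := card_sylow_of_card_eq Q hn hm
  have hPN : (P : Subgroup G) ≤ N := le_normalizer_of_index_prime inf_le_left hP hD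
  have hQN : (Q : Subgroup G) ≤ N := le_normalizer_of_index_prime inf_le_right hQ hD
  have hS := one_lt_card_sylow_of_le hPQ hPN hQN
  have hD1 : D ≠ ⊥ := fun h => by
    rw [h, card_bot] at hD
    exact absurd hD.symm (Nat.one_lt_pow (by omega) hp.out.one_lt).ne'
  have hN : N ≠ ⊤ := normalizer_ne_top_of_simple hD1 fun h =>
    sylow_ne_top_of_simple hG P (top_le_iff.1 (h ▸ inf_le_left))
  obtain ⟨t, ht⟩ := hP ▸ card_dvd_of_le hPN
  have hpp := pow_pos hp.out.pos (a + 2)
  have htm : t ∣ m := by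
    have := card_subgroup_dvd_card N
    rwa [ht, hn, Nat.mul_dvd_mul_iff_left hpp] at this
  have hm0 : m ≠ 0 := by rintro rfl; simp at hm
  have ht0 : 0 < t := Nat.pos_of_dvd_of_pos htm (Nat.pos_of_ne_zero hm0)
  refine ⟨t, ⟨htm, ⟨Nat.card (Sylow p N), ?_⟩, ?_, ?_⟩, ht, hS⟩
  · have h2 := (P.subtype hPN).card_dvd_index
    rw [sylow_index_eq _ ht fun h => hm (h.trans htm)] at h2
    have h3 := card_sylow_modEq_one p N
    exact ⟨Nat.le_of_dvd ht0 h2, h2, Eq.trans h3 (Nat.mod_eq_of_lt hp.out.one_lt), hS⟩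
  · refine idxOK_of_dvd_card hG hN ht.symm.dvd ?_
    rw [hn, mul_assoc, Nat.mul_div_cancel' htm]
  · rintro rfl ha rfl ⟨c, rfl⟩
    obtain rfl : a = 0 := by omega
    obtain ⟨V, hV1, hV2, hV3⟩ := exists_normal_four ht hS
    have : Fact (Nat.Prime 2) := ⟨Nat.prime_two⟩
    have h8 := Sylow.prime_pow_dvd_card_normalizer (p := 2) (n := 2) (H := V)
      (by rw [hn]; exact ⟨9 * c, by ring⟩) hV2
    have h9 : 9 ∣ Nat.card (normalizer (V : Set G)) :=
      Dvd.dvd.trans ⟨4, ht⟩ (card_dvd_of_le hV3)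
    refine idxOK_of_dvd_card hG (normalizer_ne_top_of_simple (H := V) ?_ ?_) (a := 72)
      (Nat.Coprime.mul_dvd_of_dvd_of_dvd (m := 8) (n := 9) (by norm_num) h8 h9) ?_
    · rintro rfl; simp at hV2
    · rintro rfl
      rw [card_top, hn] at hV2
      omega
    · rw [hn, Nat.mul_div_cancel_left _ (by norm_num)]; ring

end Cfsg.Agent.Cl
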