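import Cfsg.Agent.Cl.SimpleBasic

/-! Recognition of small doubly transitive groups on `A ∪ {∞}` whose point stabiliser is
`A ⋊ ⟨μ⟩`, `μ` having two orbits on `A ∖ 0`: a finite check determines the element that swaps
`0` and `∞`. -/

set_option autoImplicit false

namespace Cfsg.Agent.Cl

open MulAction Subgroup Equiv

/-- The combinatorial data of the model. -/
structure ZModel (A : Type) where
  μ : A → A
  m : ℕ
  e1 : A
  e2 : A
  lg : A → ℕ × Bool
  j0 : ℕ
  u0 : A
  v0 : A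

namespace ZModel

variable {A : Type} [AddCommGroup A] [DecidableEq A] (M : ZModel A)

/-- The candidate for the element swapping `0` and `∞`. -/
def W (j : ℕ) (u v : A) : Option A → Option A
  | none => some 0
  | some t => if t = 0 then none else some (M.μ^[j * (M.lg t).1 % M.m] (bif (M.lg t).2 then u else v))

/-- The word `w τ w τ w` that fixes `∞`. -/
def word (f : Option A → Option A) (b : A) (y : Option A) : Option A :=
  f ((f ((f y).map (· + b))).map (· + -(f (some b)).getD 0))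

/-- The word is an affine map. -/
def Aff (f : Option A → Option A) (b : A) : Prop :=
  ∃ k < M.m, ∀ t, word f b (some t) = some (M.μ^[k] t + (word f b (some 0)).getD 0)

instance decAff [Fintype A] (f : Option A → Option A) (b : A) : Decidable (M.Aff f b) := by
  unfold Aff; infer_instance

/-- The finite check, first part. -/
def Chk1 : Prop :=
  0 < M.m ∧ M.e1 ≠ 0 ∧ M.e2 ≠ 0 ∧ M.μ 0 = 0 ∧ (∀ t, M.μ^[M.m] t = t) ∧
    ∀ t, t ≠ 0 → M.μ^[(M.lg t).1] (bif (M.lg t).2 then M.e1 else M.e2) = t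

instance decChk1 [Fintype A] : Decidable M.Chk1 := by
  unfold Chk1; infer_instance

/-- The finite check, conclusion. -/
def Good (j : ℕ) (u v : A) : Prop :=
  ∃ k < M.m, ∀ y, M.W j u v y = (M.W M.j0 M.u0 M.v0 y).map M.μ^[k]

instance decGood [Fintype A] (j : ℕ) (u v : A) : Decidable (M.Good j u v) := by
  unfold Good; infer_instance

/-- The finite check. -/
def Chk (J : ℕ → Bool) : Prop :=
  M.Chk1 ∧ ∀ j < M.m, J j = true → ∀ u v : A, M.Aff (M.W j u v) M.e1 → M.Aff (M.W j u v) M.e2 →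
    M.Good j u v

instance decChk [Fintype A] (J : ℕ → Bool) : Decidable (M.Chk J) := by
  unfold Chk; infer_instance

/-- The generators of the model group. -/
def gens : Set (Perm (Option A)) :=
  {σ | (∃ b, ⇑σ = Option.map (· + b)) ∨ ⇑σ = Option.map M.μ ∨ ⇑σ = M.W M.j0 M.u0 M.v0}

end ZModel

/-- The group-theoretic data. -/
structure ZSet (G Ω : Type*) {A : Type} [Group G] [MulAction G Ω] [AddCommGroup A]
    (μ : A → A) where
  ω : Ω
  o : Ω
  x : A → G
  d : G
  x_add : ∀ a b, x (a + b) = x a * x b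
  x_fix : ∀ a, x a • ω = ω
  o_ne : o ≠ ω
  reg : ∀ y, y ≠ ω → ∃! t, x t • o = y
  d_ω : d • ω = ω
  d_o : d • o = o
  d_x : ∀ t, d * x t * d⁻¹ = x (μ t)
  stab : ∀ g : G, g • ω = ω → g • o = o → ∃ k : ℕ, g = d ^ k
  move : ∃ g : G, g • ω ≠ ω
  faithful : ∀ g : G, (∀ y : Ω, g • y = y) → g = 1

namespace ZSet

variable {G Ω : Type*} {A : Type} [Group G] [MulAction G Ω] [AddCommGroup A] {μ : A → A}
  (Z : ZSet G Ω μ)

theorem x_zero : Z.x 0 = 1 := by
  have := Z.x_add 0 0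
  rw [add_zero] at this
  exact left_eq_mul.1 this

theorem x_o_ne (t : A) : Z.x t • Z.o ≠ Z.ω := fun h =>
  Z.o_ne (smul_left_cancel (Z.x t) (h.trans (Z.x_fix t).symm))

/-- The identification of `Ω` with `A ∪ {∞}`. -/
noncomputable def E : Option A ≃ Ω :=
  Equiv.ofBijective (fun y => y.elim Z.ω fun t => Z.x t • Z.o) ⟨by
    rintro (_ | s) (_ | t) h
    · rfl
    · exact absurd h.symm (Z.x_o_ne t)
    · exact absurd h (Z.x_o_ne s)
    · exact congrArg some ((Z.reg _ (Z.x_o_ne t)).unique h rfl), fun y => by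
    by_cases hy : y = Z.ω
    · exact ⟨none, hy.symm⟩
    · obtain ⟨t, ht, -⟩ := Z.reg y hy
      exact ⟨some t, ht⟩⟩

theorem E_none : Z.E none = Z.ω := rfl
theorem E_some (t : A) : Z.E (some t) = Z.x t • Z.o := rfl

/-- The permutation representation on `A ∪ {∞}`. -/
noncomputable def φ : G →* Perm (Option A) :=
  Z.E.symm.permCongrHom.toMonoidHom.comp (toPermHom G Ω)

theorem φ_eq_iff (g : G) (y z : Option A) : Z.φ g y = z ↔ g • Z.E y = Z.E z := by
  change Z.E.symm (g • Z.E y) = z ↔ _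
  rw [Equiv.symm_apply_eq]

theorem φ_injective : Function.Injective Z.φ := by
  rw [injective_iff_map_eq_one]
  intro g hg
  refine Z.faithful g fun y => ?_
  obtain ⟨y, rfl⟩ := Z.E.surjective y
  rw [← φ_eq_iff, hg]; rfl

theorem φ_x (b : A) : ⇑(Z.φ (Z.x b)) = Option.map (· + b) := by
  funext y
  rw [φ_eq_iff]
  rcases y with _ | t
  · exact Z.x_fix b
  · simp only [Option.map_some, E_some, ← mul_smul, ← Z.x_add, add_comm]

theorem φ_d : ⇑(Z.φ Z.d) = Option.map μ := by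
  funext y
  rw [φ_eq_iff]
  rcases y with _ | t
  · exact Z.d_ω
  · simp only [Option.map_some, E_some, ← Z.d_x, mul_smul, inv_smul_eq_iff.2 Z.d_o.symm]

theorem φ_d_pow (k : ℕ) : ⇑(Z.φ (Z.d ^ k)) = Option.map μ^[k] := by
  induction k with
  | zero => simp
  | succ k ih =>
    rw [pow_succ, map_mul, Perm.coe_mul, ih, φ_d, Function.iterate_succ, Option.map_comp_map]

theorem stab_ω {g : G} (hg : g • Z.ω = Z.ω) : ∃ (t : A) (k : ℕ), g = Z.x t * Z.d ^ k := by
  obtain ⟨t, ht, -⟩ := Z.reg (g • Z.o) fun h => Z.o_ne (smul_left_cancel g (h.trans hg.symm))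
  obtain ⟨k, hk⟩ := Z.stab ((Z.x t)⁻¹ * g) (by rw [mul_smul, hg, inv_smul_eq_iff, Z.x_fix])
    (by rw [mul_smul, inv_smul_eq_iff, ht])
  exact ⟨t, k, by rw [← hk, mul_inv_cancel_left]⟩

theorem exists_swap : ∃ w : G, w • Z.ω = Z.o ∧ w • Z.o = Z.ω := by
  obtain ⟨g, hg⟩ := Z.move
  obtain ⟨t, ht, -⟩ := Z.reg _ hg
  have h1 : ((Z.x t)⁻¹ * g) • Z.ω = Z.o := by rw [mul_smul, inv_smul_eq_iff, ht]
  obtain ⟨s, hs, -⟩ := Z.reg (((Z.x t)⁻¹ * g)⁻¹ • Z.ω) fun h => by
    rw [inv_smul_eq_iff, h1] at h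
    exact Z.o_ne h.symm
  exact ⟨(Z.x t)⁻¹ * g * Z.x s, by rw [mul_smul, Z.x_fix, h1], by rw [mul_smul, hs, smul_inv_smul]⟩

end ZSet

theorem ZSet.range_φ {G Ω : Type*} {A : Type} [Group G] [MulAction G Ω] [AddCommGroup A]
    [DecidableEq A] (M : ZModel A) (Z : ZSet G Ω M.μ) (J : ℕ → Bool) (hM : M.Chk J)
    (hJ : ∀ (w : G) (j : ℕ), w • Z.ω = Z.o → w • Z.o = Z.ω → j < M.m →
      w * Z.d * w⁻¹ = Z.d ^ j → J j = true) : Z.φ.range = closure M.gens := by
  obtain ⟨⟨hm, he1, he2, hμ0, hper, hlg⟩, hchk⟩ := hM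
  have hdm : Z.d ^ M.m = 1 := Z.φ_injective (by
    ext1 y
    rw [Z.φ_d_pow, map_one]
    rcases y with _ | t
    · rfl
    · exact congrArg some (hper t))
  have hdmod : ∀ k, Z.d ^ k = Z.d ^ (k % M.m) := fun k => pow_eq_pow_mod k hdm
  have hit0 : ∀ k, M.μ^[k] 0 = 0 := fun k => Function.iterate_fixed hμ0 k
  obtain ⟨w, hw1, hw2⟩ := Z.exists_swap
  obtain ⟨j', hj'⟩ := Z.stab (w * Z.d * w⁻¹)
    (by rw [mul_smul, mul_smul, inv_smul_eq_iff.2 hw2.symm, Z.d_o, hw2])
    (by rw [mul_smul, mul_smul, inv_smul_eq_iff.2 hw1.symm, Z.d_ω, hw1])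
  rw [hdmod] at hj'
  set j := j' % M.m
  have hj : j < M.m := Nat.mod_lt _ hm
  have hw0 : Z.φ w (some 0) = none := by
    rw [Z.φ_eq_iff, Z.E_some, Z.x_zero, one_smul, hw2, Z.E_none]
  have hwn : Z.φ w none = some 0 := by
    rw [Z.φ_eq_iff, Z.E_some, Z.x_zero, one_smul, Z.E_none, hw1]
  have hws : ∀ t, t ≠ 0 → Z.φ w (some t) = some ((Z.φ w (some t)).getD 0) := fun t ht => by
    rcases h : Z.φ w (some t) with _ | s
    · exact absurd (Option.some_injective _ ((Z.φ w).injective (h.trans hw0.symm))) ht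
    · rfl
  have hwd : ∀ k, w * Z.d ^ k = Z.d ^ (j * k % M.m) * w := fun k => by
    rw [← hdmod, pow_mul, ← hj', conj_pow, inv_mul_cancel_right]
  have hW : ⇑(Z.φ w) = M.W j ((Z.φ w (some M.e1)).getD 0) ((Z.φ w (some M.e2)).getD 0) := by
    funext y
    rcases y with _ | t
    · exact hwn
    by_cases ht : t = 0
    · rw [ht, hw0]; simp [ZModel.W]
    have h1 := congrArg (fun g => Z.φ g (some (bif (M.lg t).2 then M.e1 else M.e2)))
      (hwd (M.lg t).1)
    simp only [map_mul, Perm.coe_mul, Function.comp_apply, Z.φ_d_pow, Option.map_some,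
      hlg t ht] at h1
    rw [h1]
    simp only [ZModel.W, if_neg ht]
    cases (M.lg t).2
    · rw [cond_false, hws _ he2]; rfl
    · rw [cond_true, hws _ he1]; rfl
  have hAff : ∀ b, b ≠ 0 → M.Aff (Z.φ w) b := fun b hb => by
    have h1 : ∀ y, ZModel.word (Z.φ w) b y =
        Z.φ (w * Z.x (-(Z.φ w (some b)).getD 0) * w * Z.x b * w) y := fun y => by
      simp only [map_mul, Perm.coe_mul, Function.comp_apply, Z.φ_x, ZModel.word]
    have h2 : ZModel.word (Z.φ w) b none = none := by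
      simp only [ZModel.word, hwn, Option.map_some, zero_add]
      rw [hws b hb]
      simp only [Option.map_some, Option.getD_some, add_neg_cancel, hw0]
    rw [h1, Z.φ_eq_iff] at h2
    obtain ⟨t, k, hk⟩ := Z.stab_ω h2
    rw [hdmod] at hk
    refine ⟨k % M.m, Nat.mod_lt _ hm, fun s => ?_⟩
    simp only [h1, hk, map_mul, Perm.coe_mul, Function.comp_apply, Z.φ_x, Z.φ_d_pow,
      Option.map_some, hit0, zero_add, Option.getD_some]
  obtain ⟨k, -, hk⟩ := hchk j hj (hJ w j hw1 hw2 hj hj') _ _ (hW ▸ hAff _ he1) (hW ▸ hAff _ he2)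
  rw [← hW] at hk
  have hw' : ⇑(Z.φ ((Z.d ^ k)⁻¹ * w)) = M.W M.j0 M.u0 M.v0 := by
    funext y
    rw [map_mul, map_inv, Perm.mul_apply, Perm.inv_eq_iff_eq, Z.φ_d_pow, hk]
  have hx : ∀ t, Z.φ (Z.x t) ∈ closure M.gens := fun t => subset_closure (Or.inl ⟨t, Z.φ_x t⟩)
  have hd : Z.φ Z.d ∈ closure M.gens := subset_closure (Or.inr (Or.inl Z.φ_d))
  have hstab : ∀ g : G, g • Z.ω = Z.ω → Z.φ g ∈ closure M.gens := fun g hg => by
    obtain ⟨t, k, rfl⟩ := Z.stab_ω hg
    rw [map_mul, map_pow]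
    exact mul_mem (hx t) (pow_mem hd k)
  have hwm : Z.φ w ∈ closure M.gens := by
    have h1 : Z.φ ((Z.d ^ k)⁻¹ * w) ∈ closure M.gens := subset_closure (Or.inr (Or.inr hw'))
    have h2 := mul_mem (pow_mem hd k) h1
    rwa [← map_pow, ← map_mul, mul_inv_cancel_left] at h2
  apply le_antisymm
  · rintro _ ⟨g, rfl⟩
    by_cases hg : g • Z.ω = Z.ω
    · exact hstab g hg
    obtain ⟨t, ht, -⟩ := Z.reg _ hg
    have h1 := hstab ((Z.x t * w)⁻¹ * g) (by rw [mul_smul, inv_smul_eq_iff, mul_smul, hw1, ht])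
    have h2 := mul_mem (mul_mem (hx t) hwm) h1
    rwa [← map_mul, ← map_mul, mul_inv_cancel_left] at h2
  · rw [closure_le]
    rintro σ (⟨b, h⟩ | h | h)
    · exact ⟨Z.x b, DFunLike.coe_injective ((Z.φ_x b).trans h.symm)⟩
    · exact ⟨Z.d, DFunLike.coe_injective (Z.φ_d.trans h.symm)⟩
    · exact ⟨_, DFunLike.coe_injective (hw'.trans h.symm)⟩

theorem ZSet.nonempty_equiv {G Ω : Type*} {A : Type} [Group G] [MulAction G Ω] [AddCommGroup A]
    [DecidableEq A] (M : ZModel A) (Z : ZSet G Ω M.μ) (J : ℕ → Bool) (hM : M.Chk J)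
    (hJ : ∀ (w : G) (j : ℕ), w • Z.ω = Z.o → w • Z.o = Z.ω → j < M.m →
      w * Z.d * w⁻¹ = Z.d ^ j → J j = true) : Nonempty (G ≃* closure M.gens) :=
  ⟨(MonoidHom.ofInjective Z.φ_injective).trans (MulEquiv.subgroupCongr (Z.range_φ M J hM hJ))⟩

/-- The model for `PSL_2(7)`. -/
def zm7 : ZModel (ZMod 7) where
  μ t := 2 * t
  m := 3
  e1 := 1
  e2 := 3
  lg t := [(0, true), (0, true), (1, true), (0, false), (2, true), (2, false), (1, false)].getD
    t.val (0, true)
  j0 := 2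
  u0 := 3
  v0 := 1

theorem zm7_chk : zm7.Chk (· != 1) := by decide +kernel

/-- The model for `PSL_2(11)`. -/
def zm11 : ZModel (ZMod 11) where
  μ t := 3 * t
  m := 5
  e1 := 1
  e2 := 2
  lg t := [(0, true), (0, true), (0, false), (1, true), (4, true), (3, true), (1, false), (2, false), (4, false), (2, true), (3, false)].getD
    t.val (0, true)
  j0 := 4
  u0 := 2
  v0 := 1

theorem zm11_chk : zm11.Chk (fun _ => true) := by decide +kernel

/-- The model for `PSL_2(13)`. -/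
def zm13 : ZModel (ZMod 13) where
  μ t := 4 * t
  m := 6
  e1 := 1
  e2 := 2
  lg t := [(0, true), (0, true), (0, false), (2, true), (1, true), (4, false), (2, false), (5, false), (1, false), (4, true), (5, true), (3, false), (3, true)].getD
    t.val (0, true)
  j0 := 5
  u0 := 1
  v0 := 7

theorem zm13_chk : zm13.Chk (fun _ => true) := by decide +kernel

/-- The model for `PSL_2(9)`. -/
def zm9 : ZModel (ZMod 3 × ZMod 3) where
  μ t := (-t.2, t.1)
  m := 4
  e1 := (1, 0)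
  e2 := (1, 1)
  lg t := [(0, true), (1, true), (3, true), (0, true), (0, false), (3, false), (2, true), (1, false), (2, false)].getD
    (3 * t.1.val + t.2.val) (0, true)
  j0 := 3
  u0 := (1, 0)
  v0 := (2, 1)

theorem zm9_chk : zm9.Chk (fun _ => true) := by decide +kernel

end Cfsg.Agent.Cl
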