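import Cfsg.Agent.Cl.SimpleIdx
import Cfsg.Agent.Cl.SimpleZ

/-! Uniqueness of the simple groups of orders 168, 360, 660 and 1092. -/

set_option autoImplicit false

namespace Cfsg.Agent.Cl

open MulAction Subgroup Equiv

section general
variable {G : Type*} [Group G]

theorem card_stabilizer_inf {Ω : Type*} [MulAction G Ω] [Finite Ω] {ω o : Ω} (ho : o ≠ ω)
    (h : ∀ y, y ≠ ω → ∃ g : G, g • ω = ω ∧ g • o = y) :
    (Nat.card Ω - 1) * Nat.card (stabilizer G ω ⊓ stabilizer G o : Subgroup G) =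
      Nat.card (stabilizer G ω) := by
  have h1 := ncard_orbit_mul_card_stabilizer (G := stabilizer G ω) o
  have h2 : orbit (stabilizer G ω) o = {ω}ᶜ := by
    ext y
    constructor
    · rintro ⟨⟨g, hg⟩, rfl⟩ h
      exact ho (smul_left_cancel g (Eq.trans h (mem_stabilizer_iff.1 hg).symm))
    · intro hy
      obtain ⟨g, h1, h2⟩ := h y hy
      exact ⟨⟨g, h1⟩, h2⟩
  have h3 : stabilizer (stabilizer G ω) o =
      (stabilizer G ω ⊓ stabilizer G o).subgroupOf (stabilizer G ω) := by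
    rw [inf_subgroupOf_left]; rfl
  rwa [h2, h3, Set.ncard_compl, Set.ncard_singleton,
    Nat.card_congr (subgroupOfEquivOfLe inf_le_left).toEquiv] at h1

theorem card_dvd_moved {Ω : Type*} [MulAction G Ω] {H : Subgroup G} {c : G}
    (hc : ∀ h ∈ H, Commute c h) (hfree : ∀ h ∈ H, ∀ y : Ω, c • y ≠ y → h • y = y → h = 1) :
    Nat.card H ∣ {y : Ω | c • y ≠ y}.ncard := by
  refine card_dvd_ncard_of_free _ ?_ ?_
  · rintro ⟨h, hh⟩ x hx hy
    apply hx
    change c • h • x = h • x at hy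
    rw [← mul_smul, (hc h hh).eq, mul_smul] at hy
    exact smul_left_cancel _ hy
  · rintro ⟨h, hh⟩ x hx hy
    exact Subtype.ext (hfree h hh x hx hy)

theorem pow_val_add {n : ℕ} [NeZero n] {g : G} (hg : g ^ n = 1) (a b : ZMod n) :
    g ^ (a + b).val = g ^ a.val * g ^ b.val := by
  rw [ZMod.val_add, ← pow_eq_pow_mod _ hg, pow_add]

theorem pow_val_natCast_mul {n : ℕ} [NeZero n] {g : G} (hg : g ^ n = 1) (k : ℕ) (b : ZMod n) :
    g ^ ((k : ZMod n) * b).val = (g ^ k) ^ b.val := by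
  rw [ZMod.val_mul, ← pow_eq_pow_mod _ hg, pow_mul, ZMod.val_natCast, ← pow_eq_pow_mod _ hg]

theorem injective_of_add_mul {A : Type*} [AddCommGroup A] {x : A → G}
    (hx : ∀ a b, x (a + b) = x a * x b) (h : ∀ t, x t = 1 → t = 0) : Function.Injective x := by
  intro a b hab
  have h1 := hx (a - b) b
  rw [sub_add_cancel, hab] at h1
  exact sub_eq_zero.1 (h _ (right_eq_mul.1 h1))

theorem eq_one_of_smul_sylow_eq {p : ℕ} {P Q : Sylow p G}
    (hTI : ((P : Subgroup G) ⊓ Q : Subgroup G) = ⊥) {g : G} (hg : g ∈ P) (h : g • Q = Q) :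
    g = 1 := by
  have : g ∈ (P : Subgroup G) ⊓ normalizer Q := ⟨hg, Sylow.smul_eq_iff_mem_normalizer.1 h⟩
  rwa [P.isPGroup'.inf_normalizer_sylow, hTI, mem_bot] at this

theorem smul_sylow_self {p : ℕ} {P : Sylow p G} {g : G} (hg : g ∈ P) : g • P = P :=
  Sylow.smul_eq_iff_mem_normalizer.2 (le_normalizer (H := (P : Subgroup G)) hg)

theorem conj_mem_sylow {p : ℕ} {P : Sylow p G} {g y : G} (hg : g • P = P) (hy : y ∈ P) :
    g * y * g⁻¹ ∈ P :=
  (mem_normalizer_iff.1 (Sylow.smul_eq_iff_mem_normalizer.1 hg) y).1 hy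

theorem existsUnique_smul_sylow [Finite G] {p : ℕ} {A : Type*} [Finite A] {P Q : Sylow p G}
    (hPQ : Q ≠ P) (hTI : ((P : Subgroup G) ⊓ Q : Subgroup G) = ⊥) {x : A → G}
    (hx : Function.Injective x) (hxP : ∀ t, x t ∈ P)
    (hc : Nat.card (Sylow p G) = Nat.card A + 1) (y : Sylow p G) (hy : y ≠ P) :
    ∃! t, x t • Q = y := by
  let f : A → ({P}ᶜ : Set (Sylow p G)) := fun t => ⟨x t • Q, fun h =>
    hPQ (smul_left_cancel (x t) (Eq.trans h (smul_sylow_self (hxP t)).symm))⟩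
  have hf : Function.Injective f := fun s t h => by
    have h1 : x s • Q = x t • Q := congrArg Subtype.val h
    have h2 := eq_one_of_smul_sylow_eq hTI (mul_mem (inv_mem (hxP t)) (hxP s))
      (by rw [mul_smul, h1, inv_smul_smul])
    exact hx (inv_mul_eq_one.1 h2).symm
  have hb : Function.Bijective f := (Nat.bijective_iff_injective_and_card f).2 ⟨hf, by
    rw [Nat.card_coe_set_eq, Set.ncard_compl, Set.ncard_singleton, hc]; rfl⟩
  obtain ⟨t, ht, hu⟩ := hb.existsUnique ⟨y, hy⟩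
  exact ⟨t, congrArg Subtype.val ht, fun s hs => hu s (Subtype.ext hs)⟩

theorem sylow_inf_eq_bot_of_prime [Finite G] {p : ℕ} [hp : Fact p.Prime] {P Q : Sylow p G}
    (hP : Nat.card (P : Subgroup G) = p) (hPQ : Q ≠ P) :
    ((P : Subgroup G) ⊓ Q : Subgroup G) = ⊥ := by
  have h1 := card_dvd_of_le (inf_le_left : (P : Subgroup G) ⊓ Q ≤ P)
  rw [hP] at h1
  rcases (Nat.dvd_prime hp.out).1 h1 with h | h
  · exact card_eq_one.1 h
  · have h2 := eq_of_le_of_card_ge (inf_le_left : (P : Subgroup G) ⊓ Q ≤ P) (by rw [h, hP])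
    exact absurd (Sylow.ext (P.is_maximal' Q.isPGroup' (inf_eq_left.1 h2))) hPQ

end general

section prime
variable {G : Type*} [Group G] [Finite G] [IsSimpleGroup G]

theorem exists_zset_prime (hG : ¬ IsMulCommutative G) {p m : ℕ} [hp : Fact p.Prime]
    (hn : Nat.card G = p ^ 1 * ((p + 1) * m)) (hm : ¬ p ∣ (p + 1) * m)
    (hS : Nat.card (Sylow p G) = p + 1) (a0 : ZMod p)
    (hU : ∀ u : ZMod p, u ^ m = 1 ↔ ∃ k < m, u = a0 ^ k) (hm1 : 1 < m) :
    Nonempty (ZSet G (Sylow p G) fun t : ZMod p => a0 * t) := by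
  have hpd : p ∣ Nat.card G := ⟨_, by rw [hn, pow_one]⟩
  have hmove := exists_smul_sylow_ne hG hpd
  obtain ⟨g0, P, hg0⟩ := hmove
  set Q := g0 • P
  have hP : Nat.card (P : Subgroup G) = p := (card_sylow_of_card_eq P hn hm).trans (pow_one p)
  obtain ⟨⟨g, hgP⟩, hg⟩ := exists_prime_orderOf_dvd_card' (G := (P : Subgroup G)) p hP.symm.dvd
  rw [orderOf_mk] at hg
  have hzp : zpowers g = P := eq_of_le_of_card_ge (zpowers_le.2 hgP) (by
    rw [Nat.card_zpowers, hg, hP])
  have hgp : g ^ p = 1 := hg ▸ pow_orderOf_eq_one g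
  let x : ZMod p → G := fun t => g ^ t.val
  have hadd : ∀ a b, x (a + b) = x a * x b := pow_val_add hgp
  have hinj : Function.Injective x := injective_of_add_mul hadd fun t ht => by
    have := orderOf_dvd_of_pow_eq_one ht
    rw [hg] at this
    exact (ZMod.val_eq_zero t).1 (Nat.eq_zero_of_dvd_of_lt this t.val_lt)
  have hxP : ∀ t, x t ∈ P := fun t => pow_mem hgP _
  have hreg := existsUnique_smul_sylow hg0 (sylow_inf_eq_bot_of_prime hP hg0) hinj hxP
    (by rw [hS, Nat.card_zmod])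
  have hfaith : ∀ g : G, (∀ y : Sylow p G, g • y = y) → g = 1 := fun g hg =>
    eq_one_of_forall_smul_eq ⟨g0, P, hg0⟩ hg
  set D := stabilizer G P ⊓ stabilizer G Q
  have hD : Nat.card D = m := by
    have h1 := card_stabilizer_inf (G := G) hg0 fun y hy => by
      obtain ⟨t, ht, -⟩ := hreg y hy
      exact ⟨x t, smul_sylow_self (hxP t), ht⟩
    have h2 := (stabilizer G P).index_mul_card
    rw [index_stabilizer_of_transitive, hS, ← h1, hS, hn, pow_one, Nat.add_sub_cancel] at h2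
    refine Nat.eq_of_mul_eq_mul_left (Nat.mul_pos (Nat.add_one_pos p) hp.out.pos) ?_
    rw [mul_assoc, h2]; ring
  have hex : ∀ d : D, ∃ a : ZMod p, ∀ t, d * x t * (d : G)⁻¹ = x (a * t) := fun d => by
    have h1 : d * g * (d : G)⁻¹ ∈ zpowers g := hzp ▸ conj_mem_sylow d.2.1 hgP
    obtain ⟨k, hk⟩ := (mem_powers_iff_mem_zpowers.2 h1)
    refine ⟨k, fun t => ?_⟩
    simp only [x]
    rw [pow_val_natCast_mul hgp, ← conj_pow, ← hk]
  choose a ha using hex
  have hmul : ∀ d e : D, a (d * e) = a d * a e := fun d e => by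
    apply hinj
    have h1 := ha (d * e) 1
    rw [mul_one] at h1
    rw [← h1, ← ha, ← mul_one (a e), ← ha]
    simp only [coe_mul, mul_inv_rev, mul_assoc]
  have hone : a 1 = 1 := hinj (by simpa using (ha 1 1).symm)
  let α : D →* ZMod p := ⟨⟨a, hone⟩, hmul⟩
  have hα : Function.Injective α := by
    rw [injective_iff_map_eq_one]
    intro d hd
    refine Subtype.ext (hfaith _ fun y => ?_)
    by_cases hy : y = P
    · rw [hy]; exact d.2.1
    obtain ⟨t, rfl, -⟩ := hreg y hy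
    have h1 := ha d t
    rw [show a d = 1 from hd, one_mul, mul_inv_eq_iff_eq_mul] at h1
    rw [← mul_smul, h1, mul_smul, mem_stabilizer_iff.1 d.2.2]
  have hαm : ∀ d, α d ^ m = 1 := fun d => by rw [← map_pow, ← hD, pow_card_eq_one', map_one]
  have hsurj : ∃ d, α d = a0 := by
    let f : D → {u : ZMod p | u ^ m = 1} := fun d => ⟨α d, hαm d⟩
    have hf : Function.Injective f := fun d e h => hα (congrArg Subtype.val h)
    have hle : Nat.card {u : ZMod p | u ^ m = 1} ≤ m := by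
      have := Nat.card_le_card_of_surjective
        (fun k : Fin m => (⟨a0 ^ k.1, (hU _).2 ⟨k.1, k.2, rfl⟩⟩ : {u : ZMod p | u ^ m = 1}))
        fun ⟨u, hu⟩ => by
          obtain ⟨k, hk, rfl⟩ := (hU u).1 hu
          exact ⟨⟨k, hk⟩, rfl⟩
      rwa [Nat.card_eq_fintype_card (α := Fin m), Fintype.card_fin] at this
    have hb : Function.Bijective f := (Nat.bijective_iff_injective_and_card f).2
      ⟨hf, le_antisymm (Nat.card_le_card_of_injective f hf) (hD ▸ hle)⟩
    obtain ⟨d, hd⟩ := hb.2 ⟨a0, (hU _).2 ⟨1, hm1, (pow_one _).symm⟩⟩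
    exact ⟨d, congrArg Subtype.val hd⟩
  obtain ⟨d, hd⟩ := hsurj
  refine ⟨⟨P, Q, x, d, hadd, fun t => smul_sylow_self (hxP t), hg0, hreg, d.2.1, d.2.2,
    fun t => hd ▸ ha d t, fun e h1 h2 => ?_, ⟨g0, hg0⟩, hfaith⟩⟩
  obtain ⟨k, -, hk⟩ := (hU _).1 (hαm ⟨e, h1, h2⟩)
  rw [← hd, ← map_pow] at hk
  exact ⟨k, congrArg Subtype.val (hα hk)⟩

theorem ZSet.not_commute (hG : ¬ IsMulCommutative G) {Ω : Type*} {A : Type} [MulAction G Ω]
    [AddCommGroup A] {μ : A → A} (Z : ZSet G Ω μ) (hμ : ∀ t, μ t = t → t = 0) {r : ℕ}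
    [Fact r.Prime] (hr : r ∣ Nat.card G) (R : Sylow r G) (hR : (R : Subgroup G) = zpowers Z.d)
    {w : G} (hw1 : w • Z.ω = Z.o) (hw2 : w • Z.o = Z.ω) : w * Z.d * w⁻¹ ≠ Z.d := fun hw => by
  have hfix : ∀ y, Z.d • y = y → y = Z.ω ∨ y = Z.o := fun y hy => by
    obtain ⟨y, rfl⟩ := Z.E.surjective y
    rw [← Z.φ_eq_iff, Z.φ_d] at hy
    rcases y with _ | t
    · exact Or.inl rfl
    · right
      rw [hμ t (Option.some_injective _ hy), Z.E_some, Z.x_zero, one_smul]
  have hzp : ∀ g ∈ zpowers Z.d, g • Z.ω = Z.ω ∧ g • Z.o = Z.o := fun g hg =>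
    ⟨(zpowers_le (H := stabilizer G Z.ω)).2 Z.d_ω hg, (zpowers_le (H := stabilizer G Z.o)).2 Z.d_o hg⟩
  refine not_normalizer_le_centralizer hG hr R fun n hn => ?_
  have hn' : n⁻¹ * Z.d * n ∈ zpowers Z.d := by
    have := (mem_normalizer_iff''.1 (show n ∈ normalizer ((R : Subgroup G) : Set G) from hn) Z.d).1
      (hR ▸ mem_zpowers _)
    rwa [hR] at this
  have h1 : n • Z.ω = Z.ω ∨ n • Z.ω = Z.o := hfix _ (by
    have := (hzp _ hn').1
    rwa [mul_smul, mul_smul, inv_smul_eq_iff] at this)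
  have h2 : n • Z.o = Z.ω ∨ n • Z.o = Z.o := hfix _ (by
    have := (hzp _ hn').2
    rwa [mul_smul, mul_smul, inv_smul_eq_iff] at this)
  have hcomm : Commute n Z.d := by
    rcases h1 with h1 | h1 <;> rcases h2 with h2 | h2
    · exact absurd (smul_left_cancel n (h2.trans h1.symm)) Z.o_ne
    · obtain ⟨k, rfl⟩ := Z.stab n h1 h2
      exact (Commute.refl _).pow_left k
    · obtain ⟨k, hk⟩ := Z.stab (w⁻¹ * n) (by rw [mul_smul, h1, inv_smul_eq_iff, hw1])
        (by rw [mul_smul, h2, inv_smul_eq_iff, hw2])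
      rw [inv_mul_eq_iff_eq_mul] at hk
      rw [hk]
      exact Commute.mul_left (mul_inv_eq_iff_eq_mul.1 hw) ((Commute.refl _).pow_left k)
    · exact absurd (smul_left_cancel n (h2.trans h1.symm)) Z.o_ne
  intro y hy
  have hy' : y ∈ zpowers Z.d := hR ▸ hy
  obtain ⟨k, rfl⟩ := hy'
  exact (hcomm.zpow_right k).symm.eq

theorem card_sylow_cases (hG : ¬ IsMulCommutative G) {p a m : ℕ} [hp : Fact p.Prime]
    (hn : Nat.card G = p ^ (a + 1) * m) (hm : ¬ p ∣ m) :
    Nat.card (Sylow p G) ∣ m ∧ Nat.card (Sylow p G) % p = 1 ∧ Nat.card (Sylow p G) ≠ 1 ∧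
      idxOK (Nat.card G) (Nat.card (Sylow p G)) := by
  obtain ⟨P⟩ : Nonempty (Sylow p G) := inferInstance
  have hpd : p ∣ Nat.card G := ⟨p ^ a * m, by rw [hn]; ring⟩
  have h1 := card_sylow_ne_one hG hpd
  refine ⟨sylow_index_eq P hn hm ▸ P.card_dvd_index,
    Eq.trans (card_sylow_modEq_one p G) (Nat.mod_eq_of_lt hp.out.one_lt), h1, ?_⟩
  rw [P.card_eq_index_normalizer] at h1 ⊢
  exact idxOK_index hG fun h => h1 (index_eq_one.2 h)

instance clFactPrimeSeven : Fact (Nat.Prime 7) := ⟨by norm_num⟩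
instance clFactPrimeEleven : Fact (Nat.Prime 11) := ⟨by norm_num⟩
instance clFactPrimeThirteen : Fact (Nat.Prime 13) := ⟨by norm_num⟩

theorem simple_card_168 (h : Nat.card G = 168) : Nonempty (G ≃* closure zm7.gens) := by
  have hG : ¬ IsMulCommutative G := not_comm_of_not_prime (by rw [h]; norm_num)
  obtain ⟨h1, h2, h3, -⟩ := card_sylow_cases hG (p := 7) (a := 0) (m := 24) h (by norm_num)
  have hS : Nat.card (Sylow 7 G) = 8 := by
    have := Nat.le_of_dvd (by norm_num) h1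
    generalize Nat.card (Sylow 7 G) = k at *
    interval_cases k <;> simp_all
  obtain ⟨Z⟩ := exists_zset_prime hG (p := 7) (m := 3) h (by norm_num) hS 2 (by decide)
    (by norm_num)
  refine ZSet.nonempty_equiv zm7 Z _ zm7_chk fun w j hw1 hw2 _ hj => ?_
  have hd3 : Z.d ^ 3 = 1 := Z.φ_injective (by
    ext1 y
    rw [Z.φ_d_pow, map_one]
    revert y
    decide)
  have hd1 : Z.d ≠ 1 := fun h => by
    have := congrFun Z.φ_d (some 1)
    rw [h, map_one] at this
    exact absurd this (by decide)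
  have ho : Nat.card (zpowers Z.d) = 3 := by
    rw [Nat.card_zpowers, orderOf_eq_prime hd3 hd1]
  have hi := (zpowers Z.d).card_mul_index
  rw [ho, h] at hi
  have hi' : ¬ 3 ∣ (zpowers Z.d).index := by omega
  have := Z.not_commute hG (by decide) (r := 3) (by rw [h]; norm_num)
    ((IsPGroup.of_card (n := 1) ho).toSylow hi') rfl hw1 hw2
  rw [bne_iff_ne]
  rintro rfl
  exact this (hj.trans (pow_one _))

theorem simple_card_660 (h : Nat.card G = 660) : Nonempty (G ≃* closure zm11.gens) := by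
  have hG : ¬ IsMulCommutative G := not_comm_of_not_prime (by rw [h]; norm_num)
  obtain ⟨h1, h2, h3, -⟩ := card_sylow_cases hG (p := 11) (a := 0) (m := 60) h (by norm_num)
  have hS : Nat.card (Sylow 11 G) = 12 := by
    have := Nat.le_of_dvd (by norm_num) h1
    generalize Nat.card (Sylow 11 G) = k at *
    interval_cases k <;> simp_all
  obtain ⟨Z⟩ := exists_zset_prime hG (p := 11) (m := 5) h (by norm_num) hS 3 (by decide)
    (by norm_num)
  exact ZSet.nonempty_equiv zm11 Z _ zm11_chk fun _ _ _ _ _ _ => rfl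

theorem simple_card_1092 (h : Nat.card G = 1092) : Nonempty (G ≃* closure zm13.gens) := by
  have hG : ¬ IsMulCommutative G := not_comm_of_not_prime (by rw [h]; norm_num)
  obtain ⟨h1, h2, h3, -⟩ := card_sylow_cases hG (p := 13) (a := 0) (m := 84) h (by norm_num)
  have hS : Nat.card (Sylow 13 G) = 14 := by
    have := Nat.le_of_dvd (by norm_num) h1
    generalize Nat.card (Sylow 13 G) = k at *
    interval_cases k <;> simp_all
  obtain ⟨Z⟩ := exists_zset_prime hG (p := 13) (m := 6) h (by norm_num) hS 4 (by decide)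
    (by norm_num)
  exact ZSet.nonempty_equiv zm13 Z _ zm13_chk fun _ _ _ _ _ _ => rfl

end prime

end Cfsg.Agent.Cl
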