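import Cfsg.Agent.Cl.Congr
import Cfsg.Agent.Cl.SpSimple
import Cfsg.Agent.Cl.SL2Tori

/-! Small isomorphisms: `SL_2(2) ≅ S_3`, `PSL_2(3) ≅ A_4`, `PSL_2(4) ≅ A_5`, `Sp_4(2) ≅ S_6`,
`PSL_4(2) ≅ A_8`, and the structure of `SL_2(3)`. -/

set_option autoImplicit false

namespace Cfsg.Agent.Cl

open Matrix
open scoped MatrixGroups LinearAlgebra.Projectivization

variable {F : Type*} [Field F] [Fintype F]

theorem card_projLine : Nat.card (ℙ F (Fin 2 → F)) = Fintype.card F + 1 := by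
  rw [Projectivization.card_of_finrank_two F (Fin 2 → F) (by simp), Nat.card_eq_fintype_card]

theorem center_sl_eq_bot_of_card_two {ι : Type*} [Fintype ι] [DecidableEq ι] [Nonempty ι]
    (hF : Fintype.card F = 2) : Subgroup.center (SpecialLinearGroup ι F) = ⊥ := by
  rw [← Subgroup.card_eq_one, card_center_sl, hF]
  simp

theorem sl2_two_equiv (hF : Fintype.card F = 2) : Nonempty (SL(2, F) ≃* Equiv.Perm (Fin 3)) := by
  have h := gcd_mul_card_psl_two (F := F)
  rw [hF] at h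
  obtain ⟨e⟩ := nonempty_equiv_perm_of_injective _
    (ProjectiveSpecialLinearGroup.toPermHom_injective (K := F) (ι := Fin 2)) (n := 3)
    (by rw [card_projLine, hF]) (by simpa [Nat.factorial] using h)
  exact ⟨(quotCenterEquivOfBot (center_sl_eq_bot_of_card_two hF)).symm.trans e⟩

theorem psl2_three_equiv (hF : Fintype.card F = 3) :
    Nonempty (PSL(2, F) ≃* alternatingGroup (Fin 4)) := by
  have h := gcd_mul_card_psl_two (F := F)
  rw [hF] at h
  exact nonempty_equiv_alternating_of_injective _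
    (ProjectiveSpecialLinearGroup.toPermHom_injective (K := F) (ι := Fin 2)) (n := 4)
    (by rw [card_projLine, hF]) (by simpa [Nat.factorial] using h)

theorem psl2_four_equiv (hF : Fintype.card F = 4) :
    Nonempty (PSL(2, F) ≃* alternatingGroup (Fin 5)) := by
  have h := gcd_mul_card_psl_two (F := F)
  rw [hF] at h
  norm_num at h
  exact nonempty_equiv_alternating_of_injective _
    (ProjectiveSpecialLinearGroup.toPermHom_injective (K := F) (ι := Fin 2)) (n := 5)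
    (by rw [card_projLine, hF]) (by rw [h]; rfl)

/-- Six vectors of `F_2^4` whose differences are the fifteen nonzero vectors. -/
def sp42X : Fin 6 → (Fin 2 ⊕ Fin 2 → ZMod 2) :=
  ![Sum.elim ![0, 0] ![0, 0], Sum.elim ![0, 0] ![0, 1], Sum.elim ![0, 1] ![0, 0],
    Sum.elim ![0, 1] ![1, 1], Sum.elim ![1, 1] ![0, 1], Sum.elim ![1, 1] ![1, 1]]

/-- The graph of the isomorphism `Sp_4(2) ≅ S_6`. -/
def sp42Graph : Subgroup (symplecticGroup (Fin 2) (ZMod 2) × Equiv.Perm (Fin 6)) where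
  carrier := {x | ∀ i j, x.1 • (sp42X i - sp42X j) = sp42X (x.2 i) - sp42X (x.2 j)}
  mul_mem' := by
    intro a b ha hb i j
    simp only [Prod.fst_mul, mul_smul, Prod.snd_mul, Equiv.Perm.mul_apply]
    rw [hb, ha]
  one_mem' := by intro i j; simp
  inv_mem' := by
    intro a ha i j
    simp only [Prod.fst_inv, Prod.snd_inv, inv_smul_eq_iff]
    rw [ha]; simp

theorem perm_eq_one_of_pairs {X : Type*} [Fintype X] [DecidableEq X] (h3 : 3 ≤ Fintype.card X)
    (a : Equiv.Perm X) (h : ∀ i j, i ≠ j → (a i = i ∧ a j = j) ∨ (a i = j ∧ a j = i)) : a = 1 := by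
  ext i
  by_contra hi
  obtain ⟨j, hj1, hj2⟩ := exists_ne_ne_of_three_le h3 i (a i)
  rcases h i j hj1.symm with h1 | h1
  · exact hi h1.1
  · exact hj2 h1.1.symm

theorem sp42_equiv_zmod :
    Nonempty (symplecticGroup (Fin 2) (ZMod 2) ≃* Equiv.Perm (Fin 6)) := by
  have hX : ∀ v : Fin 2 ⊕ Fin 2 → ZMod 2, ∃ i j, v = sp42X i - sp42X j := by decide +kernel
  obtain ⟨φ, hφ⟩ := exists_hom_of_graph sp42Graph (by
      apply sp_eq_top_of_spTv_mem
      intro v a
      obtain ⟨i, j, rfl⟩ := hX v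
      have ha : a = 0 ∨ a = 1 := by revert a; decide
      rcases ha with rfl | rfl
      · rw [spTv_zero]; exact Subgroup.one_mem _
      · refine ⟨(_, Equiv.swap i j), ?_, rfl⟩
        intro k l
        simp only [spTv_smul, spForm_apply]
        revert i j k l
        decide +kernel) (by
      intro a ha
      refine perm_eq_one_of_pairs (by simp) a fun i j hij => ?_
      have h1 := ha i j
      simp only [one_smul] at h1
      have key : ∀ i j k l : Fin 6, i ≠ j → sp42X i - sp42X j = sp42X k - sp42X l →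
        (k = i ∧ l = j) ∨ (k = j ∧ l = i) := by decide +kernel
      exact key i j _ _ hij h1)
  refine nonempty_equiv_perm_of_injective φ ?_ (n := 6) (by simp) ?_
  · rw [injective_iff_map_eq_one]
    intro g hg
    apply sp_ext
    intro v
    obtain ⟨i, j, rfl⟩ := hX v
    have := hφ g i j
    simpa [hg] using this
  · rw [card_sp]
    simp [Finset.prod_range_succ, Nat.factorial]

theorem sp42_equiv (hF : Fintype.card F = 2) :
    Nonempty (symplecticGroup (Fin 2) F ≃* Equiv.Perm (Fin 6)) := by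
  obtain ⟨e⟩ := sp42_equiv_zmod
  exact ⟨(spCongr (ZMod.ringEquivOfPrime F Nat.prime_two hF)).symm.trans e⟩

/-- Eight alternating matrices over `F_2` with nonsingular differences. -/
def sl42A : Fin 8 → Matrix (Fin 4) (Fin 4) (ZMod 2) :=
  ![!![0, 0, 0, 0; 0, 0, 0, 0; 0, 0, 0, 0; 0, 0, 0, 0],
    !![0, 0, 0, 1; 0, 0, 1, 0; 0, 1, 0, 0; 1, 0, 0, 0],
    !![0, 0, 1, 0; 0, 0, 1, 1; 1, 1, 0, 0; 0, 1, 0, 0],
    !![0, 0, 1, 1; 0, 0, 0, 1; 1, 0, 0, 1; 1, 1, 1, 0],
    !![0, 1, 0, 0; 1, 0, 1, 1; 0, 1, 0, 1; 0, 1, 1, 0],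
    !![0, 1, 0, 1; 1, 0, 0, 0; 0, 0, 0, 1; 1, 0, 1, 0],
    !![0, 1, 1, 0; 1, 0, 1, 0; 1, 1, 0, 1; 0, 0, 1, 0],
    !![0, 1, 1, 1; 1, 0, 0, 1; 1, 0, 0, 0; 1, 1, 0, 0]]

/-- The graph of the embedding `SL_4(2) → S_8`. -/
def sl42Graph : Subgroup (SL(4, ZMod 2) × Equiv.Perm (Fin 8)) where
  carrier := {x | ∀ i j, (SpecialLinearGroup.coeMonoidHom x.1)ᵀ *
    (sl42A (x.2 i) - sl42A (x.2 j)) * SpecialLinearGroup.coeMonoidHom x.1 = sl42A i - sl42A j}
  mul_mem' := by
    intro a b ha hb i j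
    simp only [Prod.fst_mul, Prod.snd_mul, Equiv.Perm.mul_apply, map_mul, transpose_mul]
    rw [← hb i j, ← ha (b.2 i) (b.2 j)]
    simp only [Matrix.mul_assoc]
  one_mem' := by intro i j; simp
  inv_mem' := by
    intro a ha i j
    have h1 : SpecialLinearGroup.coeMonoidHom a.1 * SpecialLinearGroup.coeMonoidHom a.1⁻¹ = 1 := by
      rw [← map_mul, mul_inv_cancel, map_one]
    simp only [Prod.fst_inv, Prod.snd_inv]
    have h2 := ha (a.2⁻¹ i) (a.2⁻¹ j)
    simp only [Equiv.Perm.coe_inv, Equiv.apply_symm_apply] at h2 ⊢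
    rw [← h2, ← Matrix.mul_assoc, ← Matrix.mul_assoc, ← transpose_mul, h1, Matrix.mul_assoc, h1]
    simp

/-- The images of the elementary transvections. -/
def sl42P : Fin 4 → Fin 4 → Fin 8 → Fin 8 :=
  ![![![0, 1, 2, 3, 4, 5, 6, 7], ![4, 5, 6, 7, 0, 1, 2, 3], ![2, 3, 0, 1, 6, 7, 4, 5],
      ![1, 0, 3, 2, 5, 4, 7, 6]],
    ![![5, 6, 4, 7, 2, 0, 1, 3], ![0, 1, 2, 3, 4, 5, 6, 7], ![1, 0, 3, 2, 7, 6, 5, 4],
      ![3, 2, 1, 0, 6, 7, 4, 5]],
    ![![7, 2, 1, 5, 6, 3, 4, 0], ![1, 0, 7, 6, 5, 4, 3, 2], ![0, 1, 2, 3, 4, 5, 6, 7],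
      ![5, 4, 6, 7, 1, 0, 2, 3]],
    ![![1, 0, 7, 4, 3, 6, 5, 2], ![2, 7, 0, 5, 6, 3, 4, 1], ![6, 5, 4, 7, 2, 1, 0, 3],
      ![0, 1, 2, 3, 4, 5, 6, 7]]]

theorem sl42P_involutive (i j : Fin 4) : Function.Involutive (sl42P i j) := by
  intro k; revert i j k; decide +kernel

theorem sl42P_spec : ∀ i j : Fin 4, i ≠ j → ∀ k : Fin 8,
    (1 + single i j 1 : Matrix (Fin 4) (Fin 4) (ZMod 2))ᵀ *
      (sl42A (sl42P i j k) - sl42A (sl42P i j 0)) * (1 + single i j 1) = sl42A k - sl42A 0 := by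
  decide +kernel

theorem psl42_equiv_zmod : Nonempty (PSL(4, ZMod 2) ≃* alternatingGroup (Fin 8)) := by
  obtain ⟨φ, hφ⟩ := exists_hom_of_graph sl42Graph (by
      apply sl_eq_top_of_transvection_mem
      intro i j hij a
      have ha : a = 0 ∨ a = 1 := by revert a; decide
      rcases ha with rfl | rfl
      · simp
      · refine ⟨(SpecialLinearGroup.transvection hij 1, (sl42P_involutive i j).toPerm), ?_, rfl⟩
        intro k l
        have h1 := sl42P_spec i j hij k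
        have h2 := sl42P_spec i j hij l
        simp only [SpecialLinearGroup.coeMonoidHom_apply, SpecialLinearGroup.transvection_coe,
          Function.Involutive.coe_toPerm]
        rw [← sub_sub_sub_cancel_right _ _ (sl42A (sl42P i j 0)), Matrix.mul_sub, Matrix.sub_mul,
          h1, h2, sub_sub_sub_cancel_right]) (by
      intro a ha
      refine perm_eq_one_of_pairs (by simp) a fun i j hij => ?_
      have h1 := ha i j
      simp only [map_one, transpose_one, Matrix.one_mul, Matrix.mul_one] at h1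
      have key : ∀ i j k l : Fin 8, i ≠ j → sl42A k - sl42A l = sl42A i - sl42A j →
        (k = i ∧ l = j) ∨ (k = j ∧ l = i) := by decide +kernel
      exact key i j _ _ hij h1)
  have e := quotCenterEquivOfBot (center_sl_eq_bot_of_card_two (F := ZMod 2) (ι := Fin 4) (by simp))
  have : IsSimpleGroup PSL(4, ZMod 2) := psl_isSimpleGroup (by simp)
  refine nonempty_equiv_alternating_of_injective (φ.comp e.toMonoidHom)
    (injective_of_isSimpleGroup _ ?_) (n := 8) (by simp) ?_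
  · refine ⟨e.symm (SpecialLinearGroup.transvection (show (0 : Fin 4) ≠ 1 by decide) 1), ?_⟩
    intro h
    simp only [MulEquiv.toMonoidHom_eq_coe, MonoidHom.coe_comp, MonoidHom.coe_coe,
      Function.comp_apply, MulEquiv.apply_symm_apply] at h
    have := hφ (SpecialLinearGroup.transvection (show (0 : Fin 4) ≠ 1 by decide) 1) 1 0
    simp only [h, SpecialLinearGroup.coeMonoidHom_apply, SpecialLinearGroup.transvection_coe,
      Equiv.Perm.one_apply] at this
    revert this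
    decide +kernel
  · have := card_psl_mul (F := ZMod 2) 4 (by norm_num)
    simp [Fin.prod_univ_four, -Nat.card_eq_fintype_card] at this
    rw [this]; rfl

theorem psl42_equiv (hF : Fintype.card F = 2) :
    Nonempty (PSL(4, F) ≃* alternatingGroup (Fin 8)) := by
  obtain ⟨e⟩ := psl42_equiv_zmod
  exact ⟨(pslCongr (ZMod.ringEquivOfPrime F Nat.prime_two hF)).symm.trans e⟩

/-- The quaternion subgroup of `SL_2(3)`. -/
def sl23Q : Subgroup SL(2, ZMod 3) where
  carrier := {g | g.1 0 0 + g.1 1 1 = 0 ∨ (g.1 0 1 = 0 ∧ g.1 1 0 = 0)}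
  mul_mem' := by
    intro a b ha hb
    have h1 := sl2_det a
    have h2 := sl2_det b
    simp only [Set.mem_ofPred_eq, sl2_mul] at *
    generalize a.1 0 0 = a0, a.1 0 1 = a1, a.1 1 0 = a2, a.1 1 1 = a3, b.1 0 0 = b0, b.1 0 1 = b1,
      b.1 1 0 = b2, b.1 1 1 = b3 at *
    revert a0 a1 a2 a3 b0 b1 b2 b3
    decide +kernel
  one_mem' := Or.inr ⟨rfl, rfl⟩
  inv_mem' := by
    intro a ha
    simp only [Set.mem_ofPred_eq, sl2_inv00, sl2_inv01, sl2_inv10, sl2_inv11] at *
    rcases ha with ha | ha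
    · left; rwa [add_comm]
    · right; simp [ha]

theorem mem_sl23Q {g : SL(2, ZMod 3)} :
    g ∈ sl23Q ↔ g.1 0 0 + g.1 1 1 = 0 ∨ (g.1 0 1 = 0 ∧ g.1 1 0 = 0) := Iff.rfl

theorem mem_sl23Q_iff_pow (g : SL(2, ZMod 3)) : g ∈ sl23Q ↔ g ^ 8 = 1 := by
  have h1 := sl2_det g
  rw [show g ^ 8 = (g * g * (g * g)) * (g * g * (g * g)) by
    simp only [pow_succ, pow_zero, one_mul, mul_assoc], mem_sl23Q, sl2_eq_iff]
  simp only [sl2_mul, sl2_one00, sl2_one01, sl2_one10, sl2_one11]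
  generalize g.1 0 0 = a0, g.1 0 1 = a1, g.1 1 0 = a2, g.1 1 1 = a3 at *
  revert a0 a1 a2 a3
  decide +kernel

theorem sl23_normal_quaternion_zmod : ∃ Q : Subgroup SL(2, ZMod 3), Q.Normal ∧ Q.index = 3 ∧
    Nonempty (Q ≃* QuaternionGroup 2) := by
  obtain ⟨P⟩ : Nonempty (Sylow 2 SL(2, ZMod 3)) := inferInstance
  have hG : Nat.card SL(2, ZMod 3) = 2 ^ 3 * 3 := by rw [card_sl_two]; simp
  have hP : Nat.card P = 2 ^ 3 := card_sylow_of_card_eq P hG (by norm_num)
  have h1 : (P : Subgroup SL(2, ZMod 3)) ≤ sl23Q := by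
    intro g hg
    rw [mem_sl23Q_iff_pow]
    have := pow_card_eq_one' (x := (⟨g, hg⟩ : (P : Subgroup SL(2, ZMod 3))))
    rw [show Nat.card (P : Subgroup SL(2, ZMod 3)) = 8 from hP] at this
    exact congrArg Subtype.val this
  have h2 : IsPGroup 2 sl23Q := fun g => ⟨3, Subtype.ext ((mem_sl23Q_iff_pow g.1).1 g.2)⟩
  have h3 : sl23Q = P := P.is_maximal' h2 h1
  refine ⟨P, ?_, ?_, ?_⟩
  · rw [← h3]
    constructor
    intro n hn g
    rw [mem_sl23Q_iff_pow] at hn ⊢
    rw [conj_pow, hn]; simp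
  · have := (P : Subgroup SL(2, ZMod 3)).index_mul_card
    rw [show Nat.card (P : Subgroup SL(2, ZMod 3)) = 8 from hP, hG] at this
    omega
  · obtain ⟨k, hk, ⟨e⟩⟩ := sylow_two_sl2_quaternion (F := ZMod 3) (by decide) P
    have := Nat.card_congr e.toEquiv
    rw [show Nat.card (P : Subgroup SL(2, ZMod 3)) = 8 from hP, Nat.card_eq_fintype_card,
      QuaternionGroup.card] at this
    have hk2 : 2 ^ k = 2 := by omega
    rw [hk2] at e
    exact ⟨e⟩

theorem sl23_normal_quaternion (hF : Fintype.card F = 3) : ∃ Q : Subgroup SL(2, F),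
    Q.Normal ∧ Q.index = 3 ∧ Nonempty (Q ≃* QuaternionGroup 2) := by
  obtain ⟨Q, h1, h2, ⟨e⟩⟩ := sl23_normal_quaternion_zmod
  let f : SL(2, ZMod 3) ≃* SL(2, F) := slCongr (ZMod.ringEquivOfPrime F Nat.prime_three hF)
  refine ⟨Q.map f.toMonoidHom, h1.map _ f.surjective, ?_, ⟨(f.subgroupMap Q).symm.trans e⟩⟩
  exact (Subgroup.index_map_equiv Q f).trans h2

end Cfsg.Agent.Cl
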